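import Cfsg.Agent.RadProp.Core
import Cfsg.Agent.BorelTits.Main
import Cfsg.Agent.Chev.RadicalCentralizer
import Cfsg.Agent.Chev.UnipotentCount
import Cfsg.Agent.Chev.All
import Cfsg.Agent.S2155

/-!
The Chevalley groups: centralizers of radicals of local subgroups.
-/

set_option autoImplicit false

namespace Cfsg.Agent.RadProp

open Cfsg.Lie Cfsg.Agent.Chev Subgroup
open scoped MatrixGroups

universe u

variable {D : ChevalleyDatum} {F : Type u} [Field F]

theorem radical_le_posUnipotent (J : Set ℕ) :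
    D.unipotentRadical F J ≤ D.posUnipotent F := by
  refine (closure_le _).2 ?_
  rintro g ⟨r, t, hr, -, e⟩
  exact subset_closure ⟨r, t, hr, e⟩

theorem rad_chev [Fintype F] {p : ℕ} [Fact p.Prime] [CharP F p]
    (hD : D ∈ [chevG2, chevB2, chevD4, chevF4, chevE6, chevE7, chevE8]) :
    Rad p ↥(D.group F) := by
  obtain ⟨C, hC, hc⟩ := S2155.exists_checks hD
  have hF := facts_of_mem.{u} hD
  refine rad_subgroup fun U hUG hU hne => ?_
  obtain ⟨g, hg, J, hJ, hN, -⟩ := BorelTits.borel_tits hF hD p hUG hU hne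
  have hV : IsPGroup p ↥((D.unipotentRadical F J).map (MulAut.conj g).toMonoidHom) :=
    ((isPGroup_posUnipotent hF p).to_le (radical_le_posUnipotent J)).map _
  refine ⟨_, ?_, hV, fun x hx => ?_, _, hV, fun x hx hcen => ?_⟩
  · rintro _ ⟨y, hy, rfl⟩
    exact mul_mem (mul_mem hg (borel_le_group hF (mem_sup_left (radical_le_posUnipotent J hy))))
      (inv_mem hg)
  · obtain ⟨q, hq, e⟩ := hN hx
    refine mem_normalizer_conj_map ?_
    rw [← e]
    simpa [MulAut.conj_apply, mul_assoc] using parabolic_le_normalizer hF J hq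
  · rw [mem_map_equiv, MulAut.conj_symm_apply]
    refine centralizer_radical_le hC hF J hJ hc (mul_mem (mul_mem (inv_mem hg) hx) hg) fun y hy => ?_
    have h := hcen _ ⟨y, hy, rfl⟩
    simp only [MulEquiv.coe_toMonoidHom, MulAut.conj_apply] at h
    calc g⁻¹ * x * g * y * (g⁻¹ * x * g)⁻¹ = g⁻¹ * (x * (g * y * g⁻¹) * x⁻¹) * g := by group
      _ = y := by rw [h]; group

theorem rad_exceptional {G : Type*} [Group G] {p : ℕ} [Fact p.Prime]
    (h : Cfsg.IsExceptionalChevChar p G) : Rad p G := by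
  obtain ⟨F, _, _, _, ⟨-, he⟩ | he | he | he | he⟩ := h <;>
    exact rad_of_mulEquiv he.some.symm (rad_chev (by simp))

end Cfsg.Agent.RadProp
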