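import Cfsg.Agent.RadProp.Polar
import Cfsg.Agent.TitsLemma.Classical
import Cfsg.Agent.Classical.OrthMat

/-!
The symplectic, unitary and orthogonal groups: local subgroups normalise radicals with scalar times
unipotent centralizers.
-/

set_option autoImplicit false

namespace Cfsg.Agent.RadProp

open Module Cfsg.Agent.ClassicalSteinberg Cfsg.Agent.ClassicalSteinberg.Polar Cfsg.Agent.Classical
  Cfsg.Agent.Classical.Herm Cfsg.Agent.Classical.Quad QuadraticMap

universe u

theorem rad_psp {F : Type u} [Field F] [Fintype F] {p : ℕ} [Fact p.Prime] [CharP F p] {m : ℕ}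
    (hm : 2 ≤ m) : Rad p (Cfsg.PSp m F) := by
  classical
  let P := sympPolar F m
  let ρ : Matrix.symplecticGroup (Fin m) F →* P.isom :=
    MonoidHom.mk' (fun A => ⟨(spEquiv m F A).1, fun x y => (spEquiv m F A).2 x y, fun _ => Iff.rfl⟩)
      fun A B => Subtype.ext (congrArg Subtype.val (map_mul (spEquiv m F) A B) :)
  have hinj : Function.Injective ρ := fun A B h =>
    (spEquiv m F).injective (Subtype.ext (congrArg Subtype.val h :))
  have hmoves : P.moves ⊆ Set.range ρ := fun g _ =>
    ⟨(spEquiv m F).symm ⟨g.1, fun x y => g.2.1 x y⟩,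
      Subtype.ext (congrArg Subtype.val ((spEquiv m F).apply_symm_apply ⟨g.1, fun x y => g.2.1 x y⟩) :)⟩
  have he : (fun _ => 1 : Fin m ⊕ Fin m → F) ≠ 0 := fun e =>
    one_ne_zero (congrFun e (Sum.inl ⟨0, by omega⟩))
  exact rad_polar ρ (fun x y _ _ _ h => absurd trivial h) (fun g v h => absurd trivial h) hmoves
    (QuotientGroup.mk' _) (QuotientGroup.mk'_surjective _) (QuotientGroup.ker_mk' _) hinj
    (by rw [finrank_symp]; omega) (Or.inr (Finite.one_lt_card (α := F))) he trivial

theorem rad_psu {F : Type u} [Field F] [Fintype F] {p : ℕ} [hp : Fact p.Prime] [CharP F p] {n q : ℕ}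
    (hF : Fintype.card F = q ^ 2) (hn : 3 ≤ n) :
    Rad p (Cfsg.PSU n F q) := by
  classical
  obtain ⟨σ, hσq, hσ, hfix, hq1⟩ := exists_powHom hF
  let P := hermPolar hσ n
  let ρ : Cfsg.SU n F q →* P.isom :=
    MonoidHom.mk' (fun A => ⟨(suEquiv n hσq A).1, (suEquiv n hσq A).2.1, fun x => by
      show hermB n σ _ _ = 0 ↔ _
      rw [(suEquiv n hσq A).2.1]
      exact Iff.rfl⟩) fun A B => Subtype.ext (congrArg Subtype.val (map_mul (suEquiv n hσq) A B) :)
  have hinj : Function.Injective ρ := fun A B h =>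
    (suEquiv n hσq).injective (Subtype.ext (congrArg Subtype.val h :))
  have hmoves : P.moves ⊆ Set.range ρ := by
    rintro g ⟨e, f, f', h, rfl⟩
    have hdet : LinearEquiv.det h.move.1 = 1 := by
      refine Units.ext ?_
      rw [LinearEquiv.coe_det, Units.val_one]
      set T : Module.End F (Fin n → F) := (h.move.1 : (Fin n → F) →ₗ[F] (Fin n → F)) with hT
      have hed : P.B e (f' - f) = 0 := by rw [map_sub, h.ef, h.ef', sub_self]
      have hde : P.B (f' - f) e = 0 := P.swap_zero hed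
      have hN : ∀ x, (T - 1) x = P.B e x • (f' - f) +
          (P.ε * (P.B (f' - f) f * P.B e x - P.B (f' - f) x)) • e := fun x => by
        show h.move.1 x - x = _
        rw [h.move_apply, Polar.moveMap_apply]; abel
      have hNe : (T - 1) e = 0 := by rw [hN, P.sing_self e h.he, hde]; simp
      have h3 : (T - 1) ^ 3 = 0 := LinearMap.ext fun x => by
        have h2 : ∀ y, ∃ a, (T - 1) ((T - 1) y) = a • e := fun y => by
          refine ⟨P.B e y * (P.ε * (P.B (f' - f) f * 0 - P.B (f' - f) (f' - f))), ?_⟩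
          rw [hN y, map_add, map_smul, map_smul, hNe, smul_zero, add_zero, hN (f' - f), hed, zero_smul,
            zero_add, smul_smul]
        obtain ⟨a, ha⟩ := h2 x
        show (T - 1) ((T - 1) ((T - 1) x)) = 0
        rw [ha, map_smul, hNe, smul_zero]
      have hT2 : T ^ (p ^ 2) = 1 := by
        have : CharP (Module.End F (Fin n → F)) p :=
          have : Nonempty (Fin n) := ⟨⟨0, by omega⟩⟩
          charP_of_injective_algebraMap (RingHom.injective (algebraMap F (Module.End F (Fin n → F)))) p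
        have h4 : (T - 1) ^ (p ^ 2) = 0 :=
          pow_eq_zero_of_le (by nlinarith [hp.out.two_le]) h3
        rw [sub_pow_char_pow_of_commute p 2 (Commute.one_right T), one_pow, sub_eq_zero] at h4
        exact h4
      have h5 := congrArg LinearMap.det hT2
      rw [map_pow, map_one] at h5
      have h6 : (LinearMap.det T - 1) ^ (p ^ 2) = 0 := by
        rw [sub_pow_char_pow, h5, one_pow, sub_self]
      exact sub_eq_zero.1 (eq_zero_of_pow_eq_zero h6)
    exact ⟨(suEquiv n hσq).symm ⟨h.move.1, h.move.2.1, hdet⟩,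
      Subtype.ext (congrArg Subtype.val ((suEquiv n hσq).apply_symm_apply ⟨h.move.1, h.move.2.1, hdet⟩) :)⟩
  obtain ⟨C₀⟩ := herm_chamber (n := n) hσ
  have hm : 0 < P.m := show 0 < n / 2 by omega
  have he : C₀.base 0 ≠ 0 := fun e => C₀.base_notMem hm (e ▸ zero_mem _)
  exact rad_polar ρ (fun x y _ hy _ h => absurd hy h) (fun g v h hv => absurd hv h) hmoves
    (QuotientGroup.mk' _) (QuotientGroup.mk'_surjective _) (QuotientGroup.ker_mk' _) hinj
    (by rw [Module.finrank_fin_fun]; omega) (Or.inr (Finite.one_lt_card (α := fixField σ))) he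
    (C₀.fl_sing (C₀.base_mem hm))

/-- A reflection along a non-singular vector is not in the commutator subgroup. -/
theorem eq_one_of_fix_perp {K : Type u} [Field K] [Finite K] {V : Type*} [AddCommGroup V] [Module K V]
    [FiniteDimensional K V] [Finite V] {Q : QuadraticForm K V} (hQ : (polarBilin Q).Nondegenerate)
    (hd : 4 < finrank K V) {g : oG Q} (hg : g ∈ commutator (oG Q)) {v : V} (hv : Q v ≠ 0)
    (h : ∀ x, polar Q v x = 0 → g.1 x - x ∈ K ∙ v) : g = 1 := by
  have hcoef : ∀ x, g.1 x - x ∈ K ∙ v →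
      g.1 x = x ∨ g.1 x = x - (polar Q x v / Q v) • v := fun x hx => by
    obtain ⟨c, hc⟩ := Submodule.mem_span_singleton.1 hx
    have h1 := g.2 x
    rw [show g.1 x = x + c • v by rw [hc]; abel, map_add', map_smul', polar_smul_right] at h1
    rcases eq_or_ne c 0 with rfl | hc0
    · left; rw [zero_smul] at hc; exact (sub_eq_zero.1 hc.symm)
    · right
      have h3 : c * (c * Q v + polar Q x v) = 0 := by linear_combination h1
      have h4 := (mul_eq_zero.1 h3).resolve_left hc0
      rw [show c = -(polar Q x v / Q v) by rw [← neg_div, eq_div_iff hv]; linear_combination h4,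
        neg_smul] at hc
      rw [sub_eq_add_neg x, hc]; abel
  have hfix : ∀ x, polar Q v x = 0 → g.1 x = x := fun x hx => by
    rcases hcoef x (h x hx) with e | e
    · exact e
    · rw [e, polar_comm, hx, zero_div, zero_smul, sub_zero]
  have hall : ∀ x, g.1 x - x ∈ K ∙ v := by
    intro x
    by_contra hx
    obtain ⟨y, hy, hy1⟩ := (quadPolar Q hQ (finrank K V) fun W _ => Submodule.finrank_le W).exists_sep hx
    have hyv : polar Q v y = 0 := hy v (Submodule.mem_span_singleton_self v)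
    have hy1' : polar Q (g.1 x - x) y = 1 := hy1

    rw [show polar Q (g.1 x - x) y = polar Q (g.1 x) (g.1 y) - polar Q x y by
      rw [hfix y hyv]; simp [polar_sub_left]] at hy1'
    rw [polar_eq_of_mem g.2, sub_self] at hy1'
    exact zero_ne_one hy1'
  by_contra hne
  obtain ⟨x₁, hx₁⟩ : ∃ x, g.1 x ≠ x := by
    by_contra! h'
    exact hne (ext_oG h')
  have hvx₁ : polar Q v x₁ ≠ 0 := fun e => hx₁ (hfix x₁ e)
  have hgr : g = rO hv := ext_oG fun x => by
    rw [rO_apply]
    set c := polar Q v x / polar Q v x₁ with hc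
    have hy : polar Q v (x - c • x₁) = 0 := by
      rw [polar_sub_right, polar_smul_right, smul_eq_mul, hc, div_mul_cancel₀ _ hvx₁, sub_self]
    have h1 := hfix _ hy
    have h2 : g.1 x₁ = x₁ - (polar Q x₁ v / Q v) • v := (hcoef x₁ (hall x₁)).resolve_left hx₁
    rw [map_sub, map_smul, h2] at h1
    have hxc : polar Q x v = c * polar Q x₁ v := by
      rw [polar_comm Q x v, polar_comm Q x₁ v, hc, div_mul_cancel₀ _ hvx₁]
    rw [hxc, sub_eq_iff_eq_add] at *
    rw [h1, smul_sub, smul_smul, mul_div_assoc]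
    abel
  have hex : Nat.card K ≠ 2 ∨ finrank K V ≠ 4 := Or.inr (by omega)
  have h1 : dickson hQ hex g = 1 := (Abelianization.commutator_subset_ker (dickson hQ hex)) hg
  rw [hgr, dickson_rO] at h1
  exact absurd h1 (by decide)

theorem rad_omega {K : Type u} [Field K] [Fintype K] {p : ℕ} [Fact p.Prime] [CharP K p]
    {ι : Type} [Fintype ι] [DecidableEq ι] (Q : QuadraticForm K (ι → K))
    (hQ : (polarBilin Q).Nondegenerate) (m : ℕ) (hm : 1 ≤ m) (hd : 4 < finrank K (ι → K))
    (hex : ∃ U : Submodule K (ι → K), (∀ u ∈ U, Q u = 0) ∧ finrank K U = m)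
    (hmax : ∀ U : Submodule K (ι → K), (∀ u ∈ U, Q u = 0) → finrank K U ≤ m) :
    Rad p (Cfsg.POmega K ⇑Q) := by
  classical
  let P := quadPolar Q hQ m hmax
  let ρ : Cfsg.Omega K ⇑Q →* P.isom :=
    MonoidHom.mk' (fun g => ⟨(oEquiv Q g.1).1,
        fun x y => polar_eq_of_mem (oEquiv Q g.1).2 x y, fun x => by
          show Q _ = 0 ↔ _
          rw [(oEquiv Q g.1).2]
          exact Iff.rfl⟩)
      fun g h => Subtype.ext (congrArg Subtype.val (map_mul (oEquiv Q) g.1 h.1) :)
  have hinj : Function.Injective ρ := fun g h e =>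
    Subtype.ext ((oEquiv Q).injective (Subtype.ext (congrArg Subtype.val e :)))
  have hmoves : P.moves ⊆ Set.range ρ := by
    rintro g ⟨e, f, f', h, rfl⟩
    obtain ⟨he, hew, hx⟩ := move_eq_sO h
    refine ⟨⟨(oEquiv Q).symm (sO he hew), (mem_omega_iff _).2 ?_⟩, Polar.isom_ext fun x => ?_⟩
    · rw [MulEquiv.apply_symm_apply]
      exact sO_mem_commutator hQ (Or.inr (by omega)) he hew
    · show (oEquiv Q ((oEquiv Q).symm (sO he hew))).1 x = _
      rw [MulEquiv.apply_symm_apply]; exact (hx x).symm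
  obtain ⟨U, hU, hUd⟩ := hex
  have hne : U ≠ ⊥ := fun h => by
    rw [h, finrank_bot] at hUd
    omega
  obtain ⟨e, heU, he⟩ := Submodule.exists_mem_ne_zero_of_ne_bot hne
  refine rad_polar ρ (fun x y _ hy hxy hns => ?_) (fun g v hv _ h => ?_) hmoves
    (QuotientGroup.mk' _) (QuotientGroup.mk'_surjective _) (QuotientGroup.ker_mk' _) hinj
    (by omega) (Or.inl hd) he (hU e heU)
  · change polar Q y y = 0 at hy
    change polar Q x y = 0 at hxy
    change ¬ Q y = 0 at hns
    have h2 : (2 : K) = 0 := (mul_eq_zero.1 ((polar_self' (Q := Q) y).symm.trans hy)).resolve_right hns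
    have : CharP K 2 := CharTwo.of_one_ne_zero_of_two_eq_zero one_ne_zero h2
    obtain ⟨c, hc⟩ := FiniteField.isSquare_of_char_two (F := K) (ringChar.eq K 2) (-(Q x / Q y))
    refine ⟨c, ?_⟩
    show Q (x + c • y) = 0
    rw [map_add', map_smul', polar_smul_right, hxy, smul_zero, add_zero, ← hc, neg_mul,
      div_mul_cancel₀ _ hns, add_neg_cancel]
  · refine Subtype.ext ((oEquiv Q).injective ?_)
    rw [show ((1 : Cfsg.Omega K ⇑Q) : Cfsg.isometryGroup K ⇑Q) = 1 from rfl, map_one]
    exact eq_one_of_fix_perp hQ hd ((mem_omega_iff _).1 g.2) hv h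

theorem rad_omega_odd {K : Type u} [Field K] [Fintype K] {p : ℕ} [Fact p.Prime] [CharP K p]
    {m : ℕ} (hm : 3 ≤ m) (hodd : Odd (Fintype.card K)) :
    Rad p (Cfsg.POmega K (Cfsg.quadFormOdd m K)) := by
  classical
  have h2 := two_ne_zero_of_odd hodd
  let Q : QuadraticForm K (Unit ⊕ (Fin m ⊕ Fin m) → K) :=
    (hyp (sqForm K) m).comp (oddCoord m).toLinearMap
  have hQe : ⇑Q = Cfsg.quadFormOdd m K := funext fun x => by simp [Q, oddCoord_map]
  have hQ : (polarBilin Q).Nondegenerate :=
    Iso.nondeg (Iso.symm ⟨oddCoord m, fun x => by simp [Q]⟩) (nondeg_hyp (nondeg_sqForm h2) m)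
  have han : ∀ z : K, sqForm K z = 0 → z = 0 := fun z hz => by
    simpa [sqForm] using hz
  have hmax : ∀ U : Submodule K (Unit ⊕ (Fin m ⊕ Fin m) → K), (∀ u ∈ U, Q u = 0) →
      finrank K U ≤ m := by
    intro U hU
    have := aniso_index (nondeg_sqForm h2) han m (U.map (oddCoord m).toLinearMap) (by
      rintro _ ⟨x, hx, rfl⟩
      simpa [Q] using hU x hx)
    rwa [LinearEquiv.finrank_map_eq] at this
  have hex : ∃ U : Submodule K (Unit ⊕ (Fin m ⊕ Fin m) → K), (∀ u ∈ U, Q u = 0) ∧
      finrank K U = m := by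
    refine ⟨(stdSing K m).map (oddCoord m).symm.toLinearMap, ?_,
      by rw [LinearEquiv.finrank_map_eq, finrank_stdSing]⟩
    rintro _ ⟨x, hx, rfl⟩
    simpa [Q] using stdSing_singular (sqForm K) m x hx
  have key := rad_omega (p := p) Q hQ m (by omega) (by simp; omega) hex hmax
  rwa [hQe] at key

theorem rad_omega_plus {K : Type u} [Field K] [Fintype K] {p : ℕ} [Fact p.Prime] [CharP K p]
    {m : ℕ} (hm : 4 ≤ m) : Rad p (Cfsg.POmega K (Cfsg.quadFormPlus m K)) := by
  classical
  let Q : QuadraticForm K (Fin m ⊕ Fin m → K) :=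
    (hyp (zeroForm K) m).comp (plusCoord m).toLinearMap
  have hQe : ⇑Q = Cfsg.quadFormPlus m K := funext fun x => by simp [Q, plusCoord_map]
  have hQ : (polarBilin Q).Nondegenerate :=
    Iso.nondeg (Iso.symm ⟨plusCoord m, fun x => by simp [Q]⟩) (nondeg_hyp nondeg_zeroForm m)
  obtain ⟨⟨U, hU, hUd⟩, hmax⟩ := plus_index (F := K) m
  have key := rad_omega (p := p) Q hQ m (by omega) (by simp; omega)
    ⟨U, fun u hu => by rw [hQe]; exact hU u hu, hUd⟩
    (fun W hW => hmax W fun u hu => by rw [← hQe]; exact hW u hu)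
  rwa [hQe] at key

theorem rad_omega_minus {K : Type u} [Field K] [Fintype K] {p : ℕ} [Fact p.Prime] [CharP K p]
    {m : ℕ} (hm : 4 ≤ m) (a b : K)
    (hab : ∀ z₁ z₂ : K, z₁ ^ 2 + a * z₁ * z₂ + b * z₂ ^ 2 = 0 → z₁ = 0 ∧ z₂ = 0) :
    Rad p (Cfsg.POmega K (Cfsg.quadFormMinus (m - 1) K a b)) := by
  classical
  let Q : QuadraticForm K ((Fin (m - 1) ⊕ Fin (m - 1)) ⊕ Fin 2 → K) :=
    (hyp (binForm a b) (m - 1)).comp (minusCoord (m - 1)).toLinearMap
  have hQe : ⇑Q = Cfsg.quadFormMinus (m - 1) K a b := funext fun x => by simp [Q, minusCoord_map]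
  have hQ : (polarBilin Q).Nondegenerate :=
    Iso.nondeg (Iso.symm ⟨minusCoord (m - 1), fun x => by simp [Q]⟩)
      (nondeg_hyp (nondeg_binForm hab) (m - 1))
  obtain ⟨⟨U, hU, hUd⟩, hmax⟩ := minus_index hab (m - 1)
  have key := rad_omega (p := p) Q hQ (m - 1) (by omega) (by simp; omega)
    ⟨U, fun u hu => by rw [hQe]; exact hU u hu, hUd⟩
    (fun W hW => hmax W fun u hu => by rw [← hQe]; exact hW u hu)
  rwa [hQe] at key

end Cfsg.Agent.RadProp
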