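import Cfsg.Agent.BlockThms.DefectCor
import Cfsg.Agent.BlockThms.FullDefect
import Cfsg.Agent.Core.PCore
import Cfsg.Prelude.Def_LieTypeChar
import Mathlib

/-!
Groups in which the normalizer of every nontrivial `p`-subgroup normalizes a `p`-subgroup whose
centralizer is a `p`-group: every block has defect zero or full defect.
-/

set_option autoImplicit false

namespace Cfsg.Agent.RadProp

open Subgroup

universe u v

variable {G : Type u} [Group G] {G' : Type v} [Group G'] {p : ℕ}

/-- Every local subgroup normalizes a `p`-subgroup whose centralizer is a `p`-group. -/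
def Rad (p : ℕ) (G : Type u) [Group G] : Prop :=
  ∀ D : Subgroup G, IsPGroup p D → D ≠ ⊥ → ∃ R : Subgroup G, IsPGroup p R ∧
    normalizer (D : Set G) ≤ normalizer (R : Set G) ∧ IsPGroup p (centralizer (R : Set G))

/-- The same, modulo the kernel of a homomorphism. -/
def RadMap (p : ℕ) (f : G →* G') : Prop :=
  ∀ D : Subgroup G, IsPGroup p D → D ≠ ⊥ → ∃ R : Subgroup G, IsPGroup p R ∧
    normalizer (D : Set G) ≤ normalizer (R : Set G) ∧
      ∀ x ∈ centralizer (R : Set G), ∃ k : ℕ, f x ^ p ^ k = 1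

theorem mem_normalizer_of_conj_mem [Finite G] {H : Subgroup G} {x : G}
    (h : ∀ y ∈ H, x * y * x⁻¹ ∈ H) : x ∈ normalizer (H : Set G) :=
  mem_normalizer_iff_map_conj_eq.2 (eq_of_le_of_card_ge (by
    rintro _ ⟨y, hy, rfl⟩
    exact h y hy) (card_map_of_injective (MulAut.conj x).injective).ge)

/-- The property passes to a quotient by a central subgroup of order prime to `p`. -/
theorem rad_of_surjective [Finite G] [Fact p.Prime] (f : G →* G') (hf : Function.Surjective f)
    (hc : f.ker ≤ center G) (hk : (Nat.card f.ker).Coprime p) (h : RadMap p f) : Rad p G' := by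
  have := Finite.of_surjective f hf
  intro D hD hne
  set H := D.comap f with hH
  obtain ⟨Q⟩ := (inferInstance : Nonempty (Sylow p ↥H))
  set E := (Q : Subgroup ↥H).map H.subtype with hE
  have hEp : IsPGroup p E := Q.2.map _
  have hEH : E ≤ H := map_subtype_le _
  -- the preimage is the product of its Sylow subgroup and the kernel
  have hkerH : f.ker ≤ H := fun x hx => by
    rw [hH, mem_comap, MonoidHom.mem_ker.1 hx]; exact D.one_mem
  have hmap : E.map f = D := by
    refine eq_of_le_of_card_ge ((map_mono hEH).trans (map_comap_le f D)) ?_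
    have h1 : Nat.card H = Nat.card D * Nat.card f.ker := by
      have e : (f.ker.subgroupOf H).index = Nat.card D := by
        rw [show f.ker.subgroupOf H = (f.comp H.subtype).ker from rfl, index_ker,
          MonoidHom.range_comp, range_subtype, hH, map_comap_eq_self_of_surjective hf]
      rw [← card_mul_index (f.ker.subgroupOf H),
        Nat.card_congr (subgroupOfEquivOfLe hkerH).toEquiv, e, Nat.mul_comm]
    obtain ⟨k, hk'⟩ := hD.exists_card_eq
    have h2 : Nat.card E = Nat.card D := by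
      rw [hE, card_map_of_injective H.subtype_injective, Q.card_eq_multiplicity, h1, hk',
        Nat.factorization_mul (pow_ne_zero k (Fact.out : p.Prime).ne_zero) Nat.card_pos.ne',
        Finsupp.add_apply, Nat.factorization_eq_zero_of_not_dvd
          ((Fact.out : p.Prime).coprime_iff_not_dvd.1 hk.symm), add_zero,
        (Fact.out : p.Prime).factorization_pow, Finsupp.single_eq_same]
    have hdisj : E ⊓ f.ker = ⊥ := by
      refine eq_bot_of_card_eq _ ?_
      obtain ⟨j, hj⟩ := (hEp.to_le (inf_le_left : E ⊓ f.ker ≤ E)).exists_card_eq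
      exact Nat.eq_one_of_dvd_coprimes (Nat.Coprime.pow_right j hk)
        (card_dvd_of_le inf_le_right) (hj ▸ dvd_rfl)
    have h3 : Nat.card (E.map f) = Nat.card E := by
      refine (Nat.card_congr (Equiv.ofBijective (f.subgroupMap E)
        ⟨?_, f.subgroupMap_surjective E⟩)).symm
      refine (injective_iff_map_eq_one _).2 fun x hx => Subtype.ext ?_
      have : (x : G) ∈ E ⊓ f.ker := ⟨x.2, congrArg Subtype.val hx⟩
      rwa [hdisj, mem_bot] at this
    rw [h3, h2]
  have hE0 : E ≠ ⊥ := fun e => hne (by rw [← hmap, e, Subgroup.map_bot])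
  obtain ⟨R, hR, hN, hC⟩ := h E hEp hE0
  have hzero : ∀ (z : G) (j : ℕ), z ∈ f.ker → z ^ p ^ j = 1 → z = 1 := fun z j hz hzj => by
    rw [← orderOf_eq_one_iff]
    exact Nat.eq_one_of_dvd_coprimes (Nat.Coprime.pow_right j hk)
      (orderOf_dvd_natCard (⟨z, hz⟩ : f.ker) |> fun d => by rwa [orderOf_mk] at d)
      (orderOf_dvd_of_pow_eq_one hzj)
  refine ⟨R.map f, hR.map f, fun y hy => ?_, fun y => ?_⟩
  · obtain ⟨x, rfl⟩ := hf y
    refine le_normalizer_map f ⟨x, hN (mem_normalizer_of_conj_mem fun e he => ?_), rfl⟩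
    obtain ⟨d, hd, hde⟩ := (mem_normalizer_iff.1 hy (f e)).1 (hmap ▸ ⟨e, he, rfl⟩) |> fun hm =>
      (show f (x * e * x⁻¹) ∈ E.map f by rw [hmap, map_mul, map_mul, map_inv]; exact hm)
    have hz : d⁻¹ * (x * e * x⁻¹) ∈ f.ker := by
      rw [MonoidHom.mem_ker, map_mul, map_inv, hde, inv_mul_cancel]
    obtain ⟨j, hj⟩ := hEp ⟨e, he⟩
    obtain ⟨i, hi⟩ := hEp ⟨d, hd⟩
    have hj' : e ^ p ^ j = 1 := congrArg Subtype.val hj
    have hi' : d ^ p ^ i = 1 := congrArg Subtype.val hi
    have hcomm : Commute d⁻¹ (x * e * x⁻¹) := by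
      have h1 : Commute d (d⁻¹ * (x * e * x⁻¹)) := mem_center_iff.1 (hc hz) d
      simpa using ((Commute.refl d).mul_right h1).inv_left
    have := hzero _ (i + j) hz (by
      rw [hcomm.mul_pow, inv_pow, pow_add, pow_mul, hi', one_pow, inv_one, one_mul,
        conj_pow, Nat.mul_comm, pow_mul, hj', one_pow, mul_one, mul_inv_cancel])
    rwa [inv_mul_eq_one.1 this] at hd
  · obtain ⟨x, hx⟩ := hf y
    have hxC : x ∈ centralizer (R : Set G) := mem_centralizer_iff.2 fun r hr => by
      have h1 : x * r * x⁻¹ * r⁻¹ ∈ f.ker := by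
        have h2 := mem_centralizer_iff.1 y.2 (f r) ⟨r, hr, rfl⟩
        rw [MonoidHom.mem_ker, map_mul, map_mul, map_mul, map_inv, map_inv, hx, ← h2]
        group
      obtain ⟨j, hj⟩ := hR ⟨r, hr⟩
      have hj' : r ^ p ^ j = 1 := congrArg Subtype.val hj
      have hcomm : Commute (x * r * x⁻¹) r⁻¹ := by
        have h2 : Commute (x * r * x⁻¹ * r⁻¹) r⁻¹ := (mem_center_iff.1 (hc h1) r⁻¹).symm
        simpa [mul_assoc] using h2.mul_left (Commute.refl r⁻¹).inv_left
      have := hzero _ j h1 (by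
        rw [hcomm.mul_pow, conj_pow, inv_pow, hj', inv_one, mul_one, mul_one, mul_inv_cancel])
      calc r * x = x * r * x⁻¹ * x := by rw [mul_inv_eq_one.1 this]
        _ = x * r := by group
    obtain ⟨k, hk'⟩ := hC x hxC
    exact ⟨k, Subtype.ext (by
      rw [show ((y ^ p ^ k : _) : G') = (y : G') ^ p ^ k from rfl, ← hx]; exact hk')⟩

theorem rad_of_mulEquiv [Finite G] [Fact p.Prime] (e : G ≃* G') (h : Rad p G) : Rad p G' := by
  refine rad_of_surjective e.toMonoidHom e.surjective ?_ ?_ fun D hD hne => ?_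
  · rw [(MonoidHom.ker_eq_bot_iff _).2 e.injective]; exact bot_le
  · rw [(MonoidHom.ker_eq_bot_iff _).2 e.injective, card_bot]; exact Nat.coprime_one_left p
  · obtain ⟨R, h1, h2, h3⟩ := h D hD hne
    refine ⟨R, h1, h2, fun x hx => ?_⟩
    obtain ⟨k, hk⟩ := h3 ⟨x, hx⟩
    exact ⟨k, by rw [← map_pow, show x ^ p ^ k = 1 from congrArg Subtype.val hk, map_one]⟩

theorem rad_of_radMap_self (h : RadMap p (MonoidHom.id G)) : Rad p G := fun D hD hne => by
  obtain ⟨R, h1, h2, h3⟩ := h D hD hne
  refine ⟨R, h1, h2, fun x => ?_⟩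
  obtain ⟨k, hk⟩ := h3 x x.2
  exact ⟨k, Subtype.ext hk⟩

theorem mem_normalizer_conj_map {g x : G} {H : Subgroup G}
    (h : g⁻¹ * x * g ∈ normalizer (H : Set G)) :
    x ∈ normalizer ((H.map (MulAut.conj g).toMonoidHom : Subgroup G) : Set G) := by
  refine mem_normalizer_iff.2 fun y => ?_
  simp only [mem_map_equiv, MulAut.conj_symm_apply]
  have := mem_normalizer_iff.1 h (g⁻¹ * y * g)
  simpa [mul_assoc] using this

/-- The property of a subgroup of an ambient group. -/
theorem rad_subgroup [Fact p.Prime] {G₀ : Subgroup G}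
    (h : ∀ U ≤ G₀, IsPGroup p U → U ≠ ⊥ → ∃ R ≤ G₀, IsPGroup p R ∧
      normalizer (U : Set G) ⊓ G₀ ≤ normalizer (R : Set G) ∧
      ∃ P : Subgroup G, IsPGroup p P ∧ ∀ x ∈ G₀, (∀ r ∈ R, x * r * x⁻¹ = r) → x ∈ P) :
    Rad p G₀ := by
  intro D hD hne
  obtain ⟨R, hRG, hR, hN, P, hP, hC⟩ := h (D.map G₀.subtype) (map_subtype_le _) (hD.map _)
    fun e => hne (map_injective G₀.subtype_injective (e.trans (Subgroup.map_bot _).symm))
  refine ⟨R.subgroupOf G₀, hR.comap_subtype, fun x hx => ?_, fun x => ?_⟩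
  · refine mem_normalizer_iff.2 fun y => mem_normalizer_iff.1
      (hN ⟨le_normalizer_map _ ⟨x, hx, rfl⟩, x.2⟩) (y : G)
  · obtain ⟨k, hk⟩ := hP ⟨(x : G₀), hC _ x.1.2 fun r hr => by
      have := congrArg Subtype.val (mem_centralizer_iff.1 x.2 ⟨r, hRG hr⟩ hr)
      simp only [Subgroup.coe_mul] at this
      rw [← this, mul_inv_cancel_right]⟩
    exact ⟨k, Subtype.ext (Subtype.ext (show ((x : G₀) : G) ^ p ^ k = 1 from congrArg Subtype.val hk))⟩

/-- The centralizer of a `p`-core-closed subgroup of such a group is a `p`-group. -/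
theorem centralizer_isPGroup [Finite G] [Fact p.Prime] (h : Rad p G) {D : Subgroup G}
    (hD : IsPGroup p D) (hne : D ≠ ⊥)
    (hcore : (Cfsg.pCore p (normalizer (D : Set G))).map (normalizer (D : Set G)).subtype = D) :
    IsPGroup p (centralizer (D : Set G)) := by
  obtain ⟨R, hR, hN, hC⟩ := h D hD hne
  refine hC.to_le (centralizer_le ?_)
  have hDR : D ≤ normalizer (R : Set G) := le_normalizer.trans hN
  have hH : IsPGroup p ↥(R ⊔ D) := hR.to_sup_of_normal_left' hD hDR
  set H := R ⊔ D with hHdef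
  set N := normalizer (D : Set G) with hNdef
  have hQN : N ≤ normalizer ((H ⊓ N : Subgroup G) : Set G) := fun x hx => by
    refine mem_normalizer_of_conj_mem fun y hy => ⟨?_, N.mul_mem (N.mul_mem hx hy.2) (N.inv_mem hx)⟩
    have : H ≤ H.comap (MulAut.conj x).toMonoidHom := sup_le
      (fun r hr => mem_sup_left ((mem_normalizer_iff.1 (hN hx) r).1 hr))
      (fun r hr => mem_sup_right ((mem_normalizer_iff.1 hx r).1 hr))
    exact this hy.1
  have hle : H ⊓ N ≤ D := by
    intro y hy
    have : ((H ⊓ N).subgroupOf N).Normal :=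
      (normal_subgroupOf_iff_le_normalizer inf_le_right).2 hQN
    rw [← hcore]
    exact ⟨⟨y, hy.2⟩, Core.le_pCore (N := (H ⊓ N).subgroupOf N)
      ((hH.to_le inf_le_left).comap_subtype) hy, rfl⟩
  intro r hr
  by_contra hrD
  have hlt : D.subgroupOf H < ⊤ := lt_top_iff_ne_top.2 fun e =>
    hrD (subgroupOf_eq_top.1 e (mem_sup_left hr))
  have := hH.isNilpotent
  obtain ⟨y, hy, hyD⟩ := SetLike.exists_of_lt (Group.normalizerCondition_of_isNilpotent _ hlt)
  refine hyD (mem_subgroupOf.2 (hle ⟨y.2, mem_normalizer_of_conj_mem fun d hd => ?_⟩))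
  have := (mem_normalizer_iff.1 hy ⟨d, mem_sup_right hd⟩).1 (mem_subgroupOf.2 hd)
  exact mem_subgroupOf.1 this

/-- Every block of such a group has defect zero or full defect. -/
theorem blockDefect_zero_or_full [Finite G] [Fact p.Prime] (h : Rad p G) {M : Ideal Cfsg.AlgInt}
    (hM : Cfsg.IsPModular p M) {B : Set (Cfsg.IrrCharacter G)} (hB : Cfsg.IsPBlock M B) :
    Cfsg.blockDefect p B = 0 ∨ Cfsg.blockDefect p B = (Nat.card G).factorization p := by
  classical
  have := Fintype.ofFinite G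
  obtain ⟨D, hD⟩ := DefectThms.exists_defectGroup hM hB
  have hcard := BlockChar.card_defectGroup hM hB hD
  by_cases hbot : D = ⊥
  · left
    rw [hbot, card_bot] at hcard
    exact Nat.pow_right_injective hM.1.two_le (hcard.symm.trans (pow_zero p).symm)
  right
  obtain ⟨g, hg, hgD⟩ := DefectThms.isDefectGroup_iff.1 hD
  obtain ⟨n, -, hnC, hgn, -⟩ := DefectThms.exists_unit_normalizer hM hB hg hgD
  obtain ⟨k, hk⟩ := centralizer_isPGroup h hgD.2.1 hbot
    (DefectThms.pCore_normalizer_eq hM hB hD) ⟨n, hnC⟩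
  have hk' : (n : G) ^ p ^ k = 1 := congrArg Subtype.val hk
  have hreg : ¬ p ∣ orderOf (n : G) :=
    BlockChar.isPRegular_of_isConj hgn (BlockChar.factorization_centralizer_eq hM hB hg).2
  have hn1 : (n : G) = 1 := by
    rw [← orderOf_eq_one_iff]
    obtain ⟨i, -, hi⟩ := (Nat.dvd_prime_pow hM.1).1 (orderOf_dvd_of_pow_eq_one hk')
    rcases i.eq_zero_or_pos with rfl | hi0
    · rw [hi, pow_zero]
    · exact absurd (hi ▸ dvd_pow_self p hi0.ne') hreg
  have hg1 : g = 1 := by
    obtain ⟨c, hc⟩ := isConj_iff.1 (hn1 ▸ hgn)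
    simpa using hc
  subst hg1
  have htop : centralizer ({1} : Set G) = ⊤ := eq_top_iff.2 fun x _ =>
    mem_centralizer_singleton_iff.2 (by simp)
  have h1 := hgD.2.2
  rw [hcard, htop, card_top] at h1
  exact Nat.pow_right_injective hM.1.two_le h1

end Cfsg.Agent.RadProp
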