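import Cfsg.Agent.RadProp.Core
import Cfsg.Agent.TitsLemma.Linear

/-!
The projective special linear groups: the fixed space of a local subgroup and its radical.
-/

set_option autoImplicit false

namespace Cfsg.Agent.RadProp

open Module Cfsg.Agent.RootSub.TransFam Cfsg.Agent.TitsLemma
open scoped MatrixGroups

universe u

variable {F : Type u} [Field F] {n : ℕ}

/-- An element commuting with the radical of a subspace is scalar times unipotent. -/
theorem sl_scalar_of_commute (hn : 2 ≤ n) {U : Submodule F (Fin n → F)} (hU0 : U ≠ ⊥) (hU1 : U ≠ ⊤)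
    {g : Matrix.SpecialLinearGroup (Fin n) F} (hg : g ∈ Subgroup.centralizer (slRad U : Set _)) :
    ∃ lam : F, (∀ u ∈ U, slRep n F g u = lam • u) ∧ ∀ x, slRep n F g x - lam • x ∈ U := by
  have key : ∀ (φ : Dual F (Fin n → F)), (∀ u ∈ U, φ u = 0) → ∀ u ∈ U, ∀ x,
      φ x • slRep n F g u = φ (slRep n F g x) • u := by
    intro φ hφ u hu x
    rcases eq_or_ne u 0 with rfl | hu0
    · rw [map_zero, smul_zero, smul_zero]
    rcases eq_or_ne φ 0 with rfl | hφ0
    · simp
    obtain ⟨t, -, htv⟩ := exists_slTv hn hu0 hφ0 (hφ u hu)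
    have htU : t ∈ slRad U := ⟨fun w hw => by rw [htv, hφ w hw, zero_smul, add_zero], fun v => by
      rw [htv, add_sub_cancel_left]; exact U.smul_mem _ hu⟩
    have h := congrArg (fun z => slRep n F z x) (Subgroup.mem_centralizer_iff.1 hg t htU)
    simp only [sl_act_mul, htv, map_add, map_smul, add_right_inj] at h
    exact h.symm
  obtain ⟨x₀, hx₀⟩ : ∃ v, v ∉ U := by
    by_contra! h
    exact hU1 (Submodule.eq_top_iff'.2 h)
  obtain ⟨φ, hφ1, hφU⟩ := Submodule.exists_dual_map_eq_bot_of_notMem hx₀ inferInstance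
  have hφ' : ∀ u ∈ U, φ u = 0 := fun u hu =>
    (Submodule.mem_bot F).1 (hφU ▸ Submodule.mem_map_of_mem hu)
  set lam := (φ x₀)⁻¹ * φ (slRep n F g x₀) with hlam
  have hU : ∀ u ∈ U, slRep n F g u = lam • u := fun u hu => by
    rw [hlam, ← smul_smul, ← key φ hφ' u hu x₀, smul_smul, inv_mul_cancel₀ hφ1, one_smul]
  obtain ⟨u, hu, hu0⟩ := Submodule.exists_mem_ne_zero_of_ne_bot hU0
  refine ⟨lam, hU, fun x => ?_⟩
  by_contra hx
  obtain ⟨ψ, hψ1, hψU⟩ := Submodule.exists_dual_map_eq_bot_of_notMem hx inferInstance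
  have h := key ψ (fun w hw => (Submodule.mem_bot F).1 (hψU ▸ Submodule.mem_map_of_mem hw)) u hu x
  rw [hU u hu, smul_smul] at h
  exact hψ1 (by rw [map_sub, map_smul, smul_eq_mul, ← smul_left_injective F hu0 h, mul_comm, sub_self])

theorem rad_psl [Fintype F] {p : ℕ} [Fact p.Prime] [CharP F p] (hn : 2 ≤ n) :
    Rad p (Matrix.ProjectiveSpecialLinearGroup (Fin n) F) := by
  classical
  let π := QuotientGroup.mk' (Subgroup.center (Matrix.SpecialLinearGroup (Fin n) F))
  have hπ : Function.Surjective π := QuotientGroup.mk'_surjective _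
  have hker : π.ker = Subgroup.center _ := QuotientGroup.ker_mk' _
  have : Nonempty (Fin n) := ⟨⟨0, by omega⟩⟩
  refine rad_of_surjective π hπ hker.le ?_ fun D hD hne => ?_
  · refine ((Fact.out : p.Prime).coprime_iff_not_dvd.2 fun hd => ?_).symm
    obtain ⟨z, hz⟩ := exists_prime_orderOf_dvd_card' p hd
    obtain ⟨r, -, hzr⟩ := Matrix.SpecialLinearGroup.mem_center_iff.1 (hker.le z.2)
    have hzp : (z : Matrix.SpecialLinearGroup (Fin n) F) ^ p = 1 := by
      rw [← Subgroup.coe_pow, ← hz, pow_orderOf_eq_one, Subgroup.coe_one]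
    have h1 := congrArg Subtype.val hzp
    rw [Matrix.SpecialLinearGroup.coe_pow, ← hzr, ← map_pow, Matrix.SpecialLinearGroup.coe_one,
      ← map_one (Matrix.scalar (Fin n))] at h1
    have hr : r ^ p = 1 := Matrix.scalar_inj.1 h1
    have h3 : (r - 1) ^ p = 0 := by rw [sub_pow_char, hr, one_pow, sub_self]
    have hz1 : (z : Matrix.SpecialLinearGroup (Fin n) F) = 1 := Subtype.ext (by
      rw [← hzr, sub_eq_zero.1 (eq_zero_of_pow_eq_zero h3), map_one,
        Matrix.SpecialLinearGroup.coe_one])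
    rw [show z = 1 from Subtype.ext hz1, orderOf_one] at hz
    exact (Fact.out : p.Prime).one_lt.ne hz
  let U : Submodule F (Fin n → F) :=
    { carrier := {x | ∀ d ∈ D, slRep n F d x = x}
      zero_mem' := fun d _ => map_zero _
      add_mem' := fun ha hb d hd => by rw [map_add, ha d hd, hb d hd]
      smul_mem' := fun c y hy d hd => by rw [map_smul, hy d hd] }
  let : MulAction (Matrix.SpecialLinearGroup (Fin n) F) (Fin n → F) :=
    MulAction.compHom _ (slRep n F)
  have hU0 : U ≠ ⊥ := by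
    have hdvd : p ∣ Nat.card (Fin n → F) := by
      obtain ⟨k, -, hk⟩ := FiniteField.card F p
      rw [Nat.card_fun, Nat.card_fin, Nat.card_eq_fintype_card (α := F), hk, ← pow_mul]
      exact dvd_pow_self p (Nat.mul_ne_zero k.ne_zero (by omega))
    obtain ⟨x, hfix, hx⟩ := hD.exists_fixed_point_of_prime_dvd_card_of_fixed_point (Fin n → F) hdvd
      (a := 0) (fun g => map_zero (slRep n F g.1))
    exact fun e => hx ((Submodule.mem_bot F).1 (e ▸ (fun d hd => hfix ⟨d, hd⟩ : x ∈ U))).symm
  have hU1 : U ≠ ⊤ := fun e => hne (D.eq_bot_iff_forall.2 fun d hd =>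
    eq_one_of_sl_act fun v => (e ▸ Submodule.mem_top : v ∈ U) d hd)
  have hUi : ∀ g ∈ Subgroup.normalizer (D : Set _), U.map (slRep n F g).toLinearMap = U := by
    have key : ∀ g ∈ Subgroup.normalizer (D : Set _), ∀ x ∈ U, slRep n F g x ∈ U := fun g hg x hx d hd => by
      conv_rhs => rw [← hx _ ((Subgroup.mem_normalizer_iff''.1 hg d).1 hd)]
      rw [← sl_act_mul, ← sl_act_mul]
      congr 2
      group
    intro g hg
    refine le_antisymm (Submodule.map_le_iff_le_comap.2 (key g hg)) fun x hx => ?_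
    exact ⟨_, key g⁻¹ (Subgroup.inv_mem _ hg) x hx, sl_apply_inv g x⟩
  refine ⟨slRad U, slRad_isPGroup U, fun g hg => mem_normalizer_of_conj_mem fun r hr =>
    conj_mem_slRad (hUi g hg) hr, fun g hg => ⟨1, ?_⟩⟩
  obtain ⟨lam, h1, h2⟩ := sl_scalar_of_commute hn hU0 hU1 hg
  have hpow : ∀ v, slRep n F (g ^ p) v = lam ^ p • v := by
    set T : Module.End F (Fin n → F) := (slRep n F g).toLinearMap with hT
    have : CharP (Module.End F (Fin n → F)) p :=
      charP_of_injective_algebraMap (RingHom.injective (algebraMap F (Module.End F (Fin n → F)))) p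
    set L : Module.End F (Fin n → F) := algebraMap F (Module.End F (Fin n → F)) lam with hL
    have hTL : ∀ x, (T - L) x = slRep n F g x - lam • x := fun x => rfl
    have h4 : (T - L) ^ 2 = 0 := LinearMap.ext fun x => by
      show (T - L) ((T - L) x) = 0
      rw [hTL ((T - L) x), hTL x, h1 _ (h2 x), sub_self]
    have h5 : (T - L) ^ (p ^ 1) = 0 :=
      pow_eq_zero_of_le (by rw [pow_one]; exact (Fact.out : p.Prime).two_le) h4
    rw [sub_pow_char_pow_of_commute p 1 (Algebra.commutes lam T).symm, sub_eq_zero, pow_one,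
      ← map_pow] at h5
    intro v
    have hk : ∀ (k : ℕ) (v : Fin n → F), slRep n F (g ^ k) v = (T ^ k) v := by
      intro k
      induction k with
      | zero => intro v; rw [pow_zero, pow_zero, sl_act_one]; rfl
      | succ k ih => intro v; rw [pow_succ, sl_act_mul, ih, pow_succ]; rfl
    rw [hk, h5]
    rfl
  rw [pow_one, ← map_pow, ← MonoidHom.mem_ker, hker, Subgroup.mem_center_iff]
  intro k
  refine Matrix.SpecialLinearGroup.toLin'_injective (LinearEquiv.ext fun v => ?_)
  show slRep n F (k * g ^ p) v = slRep n F (g ^ p * k) v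
  rw [sl_act_mul, sl_act_mul, hpow, hpow, map_smul]

end Cfsg.Agent.RadProp
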