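import Cfsg.Agent.RadProp.Core
import Cfsg.Agent.TitsLemma.Polar

/-!
Groups of isometries of a polar space containing all moves: every local subgroup stabilises a totally
singular subspace, and the centralizer of the radical of such a subspace is scalar times unipotent.
-/

set_option autoImplicit false

namespace Cfsg.Agent.RadProp

open Module Cfsg.Agent.ClassicalSteinberg Cfsg.Agent.ClassicalSteinberg.Polar Cfsg.Agent.TitsLemma

universe u v w

variable {F : Type u} {V : Type v} [Field F] [AddCommGroup V] [Module F V]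
  {P : Polar F V} {G : Type w} [Group G] (ρ : G →* P.isom)

/-- The elements fixing `W` pointwise and acting trivially on its orthogonal modulo it. -/
def polarRad (W : Submodule F V) : Subgroup G where
  carrier := {g | (∀ w ∈ W, act ρ g w = w) ∧ ∀ y ∈ P.orth W, act ρ g y - y ∈ W}
  one_mem' := ⟨fun w _ => act_one ρ w, fun y _ => by rw [act_one, sub_self]; exact zero_mem _⟩
  mul_mem' {a b} ha hb := by
    refine ⟨fun w hw => by rw [act_mul, hb.1 w hw, ha.1 w hw], fun y hy => ?_⟩
    rw [act_mul, show act ρ a (act ρ b y) - y = act ρ a (act ρ b y - y) + (act ρ a y - y) by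
      rw [map_sub]; abel, ha.1 _ (hb.2 y hy)]
    exact add_mem (hb.2 y hy) (ha.2 y hy)
  inv_mem' {a} ha := by
    have h1 : ∀ w ∈ W, act ρ a⁻¹ w = w := fun w hw => by
      conv_lhs => rw [← ha.1 w hw]
      exact act_inv_apply ρ a w
    refine ⟨h1, fun y hy => ?_⟩
    rw [show act ρ a⁻¹ y - y = -(act ρ a⁻¹ (act ρ a y - y)) by
      rw [map_sub, act_inv_apply]; abel, h1 _ (ha.2 y hy)]
    exact neg_mem (ha.2 y hy)

/-- The orthogonal of an invariant subspace is invariant. -/
theorem orth_inv {S : Set G} (hS : ∀ g ∈ S, g⁻¹ ∈ S) {W : Submodule F V}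
    (h : ∀ g ∈ S, ∀ x ∈ W, act ρ g x ∈ W) : ∀ g ∈ S, ∀ x ∈ P.orth W, act ρ g x ∈ P.orth W :=
  fun g hg v hv w hw => by
    rw [← act_apply_inv ρ g w, act_B]
    exact hv _ (h _ (hS g hg) w hw)

theorem polarRad_isPGroup [Finite V] [Nontrivial V] (hinj : Function.Injective ρ) {p : ℕ}
    [Fact p.Prime] [CharP F p] (W : Submodule F V) : IsPGroup p (polarRad ρ W) := by
  intro g
  refine ⟨2, Subtype.ext ?_⟩
  rw [Subgroup.coe_pow, Subgroup.coe_one]
  refine pow_sq_eq_one_of_nilpotent ρ hinj fun v => ?_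
  have h1 : act ρ g.1 v - v ∈ P.orth W := fun w hw => by
    rw [map_sub]
    nth_rw 1 [← g.2.1 w hw]
    rw [act_B, sub_self]
  rw [g.2.1 _ (g.2.2 _ h1)]

theorem normalizer_le_polarRad [Finite G] {N : Subgroup G} {W : Submodule F V}
    (hW : ∀ g ∈ N, ∀ x ∈ W, act ρ g x ∈ W) :
    N ≤ Subgroup.normalizer (polarRad ρ W : Set G) := fun g hg => by
  have hO := orth_inv ρ (S := (N : Set G)) (fun g hg => N.inv_mem hg) hW
  refine mem_normalizer_of_conj_mem fun r hr => ⟨fun w hw => ?_, fun y hy => ?_⟩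
  · rw [act_mul, act_mul, hr.1 _ (hW _ (N.inv_mem hg) w hw), act_apply_inv]
  · have h1 := hW g hg _ (hr.2 _ (hO _ (N.inv_mem hg) y hy))
    rwa [map_sub, ← act_mul, ← act_mul, act_apply_inv] at h1

/-- A group of `p`-power order fixes a vector outside an invariant subspace, modulo that subspace. -/
theorem exists_fixed_mod [Finite V] {p : ℕ} [Fact p.Prime] [CharP F p] {D : Subgroup G}
    (hD : IsPGroup p D) {M M' : Submodule F V} (hlt : M < M')
    (hM : ∀ d ∈ D, ∀ x ∈ M, act ρ d x ∈ M) (hM' : ∀ d ∈ D, ∀ x ∈ M', act ρ d x ∈ M') :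
    ∃ x ∈ M', x ∉ M ∧ ∀ d ∈ D, act ρ d x - x ∈ M := by
  set X := M'.map M.mkQ with hX
  have : Finite (V ⧸ M) := Finite.of_surjective _ M.mkQ_surjective
  let f : D → (V ⧸ M) →ₗ[F] V ⧸ M := fun d =>
    M.mapQ M (act ρ (d : G) : V →ₗ[F] V) fun x hx => hM d d.2 x hx
  have hf : ∀ (d : D) (x : V), f d (M.mkQ x) = M.mkQ (act ρ (d : G) x) := fun d x => rfl
  have hfX : ∀ (d : D), ∀ q ∈ X, f d q ∈ X := by
    rintro d _ ⟨x, hx, rfl⟩
    exact ⟨_, hM' d d.2 x hx, (hf d x).symm⟩
  let : MulAction D X :=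
    { smul := fun d q => ⟨f d q, hfX d q q.2⟩
      one_smul := fun q => Subtype.ext (by
        obtain ⟨x, hx⟩ := M.mkQ_surjective q.1
        show f 1 q.1 = q.1
        rw [← hx, hf, Subgroup.coe_one, act_one])
      mul_smul := fun d d' q => Subtype.ext (by
        obtain ⟨x, hx⟩ := M.mkQ_surjective q.1
        show f (d * d') q.1 = f d (f d' q.1)
        rw [← hx, hf, hf, hf, Subgroup.coe_mul, act_mul]) }
  obtain ⟨x₀, hx₀, hx₀M⟩ := SetLike.exists_of_lt hlt
  have hdvd : p ∣ Nat.card X := by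
    set q : X := ⟨M.mkQ x₀, Submodule.mem_map_of_mem hx₀⟩
    have hq : q ≠ 0 := fun e => hx₀M ((Submodule.Quotient.mk_eq_zero M).1 (congrArg Subtype.val e :))
    have hp : p • q = 0 := by rw [← Nat.cast_smul_eq_nsmul F, CharP.cast_eq_zero, zero_smul]
    rw [← addOrderOf_eq_prime hp hq]
    exact addOrderOf_dvd_natCard q
  have h0 : (0 : X) ∈ MulAction.fixedPoints D X := fun d => Subtype.ext (map_zero (f d))
  obtain ⟨⟨q, x, hx, rfl⟩, hfix, hne⟩ :=
    hD.exists_fixed_point_of_prime_dvd_card_of_fixed_point X hdvd h0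
  refine ⟨x, hx, fun h => hne (Subtype.ext ((Submodule.Quotient.mk_eq_zero M).2 h).symm), fun d hd => ?_⟩
  have h1 : f ⟨d, hd⟩ (M.mkQ x) = M.mkQ x := congrArg Subtype.val (hfix ⟨d, hd⟩)
  rw [hf] at h1
  exact (Submodule.Quotient.eq M).1 h1

variable [Finite V] [FiniteDimensional F V]
  (hsq : ∀ x y : V, P.B x x = 0 → P.B y y = 0 → P.B x y = 0 → ¬ P.Sing y →
    ∃ c : F, P.Sing (x + c • y))
  (hrefl : ∀ g : G, ∀ v : V, ¬ P.Sing v → P.B v v = 0 →
    (∀ x, P.B v x = 0 → act ρ g x - x ∈ F ∙ v) → g = 1)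
include hsq hrefl

omit [FiniteDimensional F V] in
/-- A local subgroup leaves a nonzero totally singular subspace invariant. -/
theorem exists_invariant_ts (hinj : Function.Injective ρ) {p : ℕ} [Fact p.Prime] [CharP F p]
    {D : Subgroup G} (hD : IsPGroup p D) (hne : D ≠ ⊥) :
    ∃ W : Submodule F V, W ≠ ⊥ ∧ P.TS W ∧
      ∀ g ∈ Subgroup.normalizer (D : Set G), ∀ x ∈ W, act ρ g x ∈ W := by
  set N := Subgroup.normalizer (D : Set G) with hN
  have hNi : ∀ g ∈ (N : Set G), g⁻¹ ∈ (N : Set G) := fun g hg => N.inv_mem hg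
  have hDN : ∀ d ∈ D, d ∈ N := fun d hd => Subgroup.le_normalizer hd
  -- the singular vectors of a totally isotropic invariant subspace
  have sing : ∀ A : Submodule F V, (∀ x ∈ A, ∀ y ∈ A, P.B x y = 0) →
      (∀ g ∈ N, ∀ x ∈ A, act ρ g x ∈ A) → (∃ x ∈ A, x ≠ 0 ∧ P.Sing x) →
      ∃ W : Submodule F V, W ≠ ⊥ ∧ P.TS W ∧ ∀ g ∈ N, ∀ x ∈ W, act ρ g x ∈ W := by
    rintro A hA hinv ⟨x, hx, hx0, hxs⟩
    let W : Submodule F V :=
      { carrier := {y | y ∈ A ∧ P.Sing y}
        zero_mem' := ⟨zero_mem _, P.sing_zero⟩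
        add_mem' := fun ha hb => ⟨add_mem ha.1 hb.1, P.sing_add _ _ ha.2 hb.2 (hA _ ha.1 _ hb.1)⟩
        smul_mem' := fun c y hy => ⟨A.smul_mem c hy.1, P.sing_smul c y hy.2⟩ }
    exact ⟨W, fun e => hx0 ((Submodule.mem_bot F).1 (e ▸ (⟨hx, hxs⟩ : x ∈ W))),
      fun y hy => ⟨hy.2, fun z hz => hA y hy.1 z hz.1⟩,
      fun g hg y hy => ⟨hinv g hg y hy.1, (act_sing ρ g y).2 hy.2⟩⟩
  let U : Submodule F V :=
    { carrier := {x | ∀ d ∈ D, act ρ d x = x}
      zero_mem' := fun d _ => map_zero _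
      add_mem' := fun ha hb d hd => by rw [map_add, ha d hd, hb d hd]
      smul_mem' := fun c y hy d hd => by rw [map_smul, hy d hd] }
  have hUi : ∀ g ∈ (N : Set G), ∀ x ∈ U, act ρ g x ∈ U := fun g hg x hx d hd => by
    have h1 : g⁻¹ * d * g ∈ D := (Subgroup.mem_normalizer_iff''.1 hg d).1 hd
    conv_rhs => rw [← hx _ h1]
    rw [← act_mul, ← act_mul]
    congr 2
    group
  have hOi := orth_inv ρ hNi hUi
  have hUO : ⊥ < P.orth U := bot_lt_iff_ne_bot.2 fun e => by
    refine hne (D.eq_bot_iff_forall.2 fun d hd => eq_one_of_act ρ hinj fun v => ?_)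
    have hv : v ∈ U := mem_of_mem_orth_orth (P := P) (by rw [e, P.orth_bot]; trivial)
    exact hv d hd
  obtain ⟨v, hvO, hv0, hvfix⟩ := exists_fixed_mod ρ hD hUO
    (fun d _ x hx => by rw [Submodule.mem_bot] at hx ⊢; rw [hx, map_zero])
    (fun d hd => hOi d (hDN d hd))
  rw [Submodule.mem_bot] at hv0
  have hvU : v ∈ U := fun d hd => sub_eq_zero.1 ((Submodule.mem_bot F).1 (hvfix d hd))
  set W₀ := U ⊓ P.orth U with hW₀
  have hW₀B : ∀ x ∈ W₀, ∀ y ∈ W₀, P.B x y = 0 := fun x hx y hy => hy.2 x hx.1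
  have hW₀i : ∀ g ∈ N, ∀ x ∈ W₀, act ρ g x ∈ W₀ := fun g hg x hx =>
    ⟨hUi g hg x hx.1, hOi g hg x hx.2⟩
  by_cases hs : ∃ x ∈ W₀, x ≠ 0 ∧ P.Sing x
  · exact sing W₀ hW₀B hW₀i hs
  push Not at hs
  have hvs : ¬ P.Sing v := hs v ⟨hvU, hvO⟩ hv0
  have hvv : P.B v v = 0 := hW₀B v ⟨hvU, hvO⟩ v ⟨hvU, hvO⟩
  have hline : ∀ x ∈ W₀, x ∈ F ∙ v := fun x hx => by
    obtain ⟨c, hc⟩ := hsq x v (hW₀B x hx x hx) hvv (hW₀B x hx v ⟨hvU, hvO⟩) hvs
    have h0 : x + c • v = 0 := by
      by_contra h
      exact hs _ (add_mem hx (W₀.smul_mem c ⟨hvU, hvO⟩)) h hc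
    exact Submodule.mem_span_singleton.2 ⟨-c, by rw [neg_smul, neg_eq_iff_add_eq_zero, add_comm, h0]⟩
  have hLi : ∀ g ∈ (N : Set G), ∀ x ∈ F ∙ v, act ρ g x ∈ F ∙ v := fun g hg x hx => by
    obtain ⟨c, rfl⟩ := Submodule.mem_span_singleton.1 hx
    rw [map_smul]
    exact Submodule.smul_mem _ _ (hline _ (hW₀i g hg v ⟨hvU, hvO⟩))
  set M := P.orth (F ∙ v) with hM
  have hMi := orth_inv ρ hNi hLi
  have hMv : ∀ x, x ∈ M ↔ P.B v x = 0 := fun x => ⟨fun h => h v (Submodule.mem_span_singleton_self v),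
    fun h w hw => by
      obtain ⟨c, rfl⟩ := Submodule.mem_span_singleton.1 hw
      rw [B_smul_left, h, mul_zero]⟩
  let U' : Submodule F V :=
    { carrier := {x | x ∈ M ∧ ∀ d ∈ D, act ρ d x - x ∈ F ∙ v}
      zero_mem' := ⟨zero_mem _, fun d _ => by rw [map_zero, sub_zero]; exact zero_mem _⟩
      add_mem' := fun {a b} ha hb => ⟨add_mem ha.1 hb.1, fun d hd => by
        rw [map_add, add_sub_add_comm]
        exact add_mem (ha.2 d hd) (hb.2 d hd)⟩
      smul_mem' := fun c y hy => ⟨M.smul_mem c hy.1, fun d hd => by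
        rw [map_smul, ← smul_sub]
        exact Submodule.smul_mem _ _ (hy.2 d hd)⟩ }
  have hU'i : ∀ g ∈ (N : Set G), ∀ x ∈ U', act ρ g x ∈ U' := fun g hg x hx =>
    ⟨hMi g hg x hx.1, fun d hd => by
      have h1 := hLi g hg _ (hx.2 _ ((Subgroup.mem_normalizer_iff''.1 hg d).1 hd))
      rw [map_sub, ← act_mul, show g * (g⁻¹ * d * g) = d * g by group, act_mul] at h1
      exact h1⟩
  have hvU' : v ∈ U' := ⟨(hMv v).2 hvv, fun d hd => by
    rw [hvU d hd, sub_self]; exact zero_mem _⟩
  have hO'i := orth_inv ρ hNi hU'i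
  have hvO' : F ∙ v < P.orth U' := by
    refine lt_of_le_of_ne ((Submodule.span_singleton_le_iff_mem _ _).2 fun w hw =>
      P.swap_zero ((hMv w).1 hw.1)) fun e => ?_
    refine hne (D.eq_bot_iff_forall.2 fun d hd => hrefl d v hvs hvv fun x hx => ?_)
    have hxU' : x ∈ U' := mem_of_mem_orth_orth (P := P) (by rw [← e]; exact (hMv x).2 hx)
    exact hxU'.2 d hd
  obtain ⟨x, hxO, hxv, hxfix⟩ := exists_fixed_mod ρ hD hvO'
    (fun d hd => hLi d (hDN d hd)) (fun d hd => hO'i d (hDN d hd))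
  have hxM : x ∈ M := (hMv x).2 (hxO v hvU')
  have hxU' : x ∈ U' := ⟨hxM, hxfix⟩
  have hA : ∀ a ∈ U' ⊓ P.orth U', ∀ b ∈ U' ⊓ P.orth U', P.B a b = 0 := fun a ha b hb => hb.2 a ha.1
  refine sing (U' ⊓ P.orth U') hA (fun g hg y hy => ⟨hU'i g hg y hy.1, hO'i g hg y hy.2⟩) ?_
  have hvA : v ∈ U' ⊓ P.orth U' := ⟨hvU', hvO'.le (Submodule.mem_span_singleton_self v)⟩
  obtain ⟨c, hc⟩ := hsq x v (hA x ⟨hxU', hxO⟩ x ⟨hxU', hxO⟩) hvv (hA x ⟨hxU', hxO⟩ v hvA) hvs
  refine ⟨x + c • v, add_mem ⟨hxU', hxO⟩ (Submodule.smul_mem _ c hvA), fun h => hxv ?_, hc⟩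
  exact Submodule.mem_span_singleton.2 ⟨-c, by rw [neg_smul, neg_eq_iff_add_eq_zero, add_comm, h]⟩

omit hsq hrefl

theorem three_le_finrank_orth [Finite F] {W : Submodule F V} (hW : P.TS W) :
    finrank F V ≤ 2 * finrank F (P.orth W) := by
  have h := P.card_orth W
  rw [Module.natCard_eq_pow_finrank (K := F) (V := P.orth W),
    Module.natCard_eq_pow_finrank (K := F) (V := W),
    Module.natCard_eq_pow_finrank (K := F) (V := V), ← pow_add] at h
  have h1 := Nat.pow_right_injective (Finite.one_lt_card (α := F)) h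
  have h2 := Submodule.finrank_mono (hW.le_orth P)
  omega

variable [Finite F]

/-- An element commuting with all moves along a totally singular subspace is scalar times unipotent. -/
theorem scalar_of_commute (hn : 2 < finrank F V) (hsize : 4 < finrank F V ∨ 2 ≤ P.t)
    {W : Submodule F V} (hW0 : W ≠ ⊥) (hTS : P.TS W) (g : G)
    (hcomm : ∀ e f f', MoveData P e f f' → e ∈ W → f' - f ∈ P.orth W →
      ∀ x, act ρ g (P.moveMap e f f' x) = P.moveMap e f f' (act ρ g x)) :
    ∃ lam : F, lam ≠ 0 ∧ (∀ w ∈ W, act ρ g w = lam • w) ∧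
      (∀ x ∈ P.orth W, act ρ g x - lam • x ∈ W) ∧ ∀ x, act ρ g x - lam • x ∈ P.orth W := by
  classical
  have hWO := hTS.le_orth P
  have hdim : 2 ≤ finrank F (P.orth W) := by
    have := three_le_finrank_orth hTS
    omega
  -- the moves along a point of `W`
  have hgen : ∀ e ∈ W, e ≠ 0 → ∀ d ∈ P.orth W, ∃ f d' : V, P.B e f = 1 ∧
      (∃ c : F, d' = d + c • e) ∧ MoveData P e f (f + d') := by
    intro e he he0 d hd
    obtain ⟨f, hf, hef⟩ := exists_partner he0 (hTS e he).1
    have hed : P.B e d = 0 := hd e he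
    obtain ⟨c, hc, hc1⟩ := exists_sing_add (hTS e he).1 (v := f + d)
      (by rw [map_add, hef, hed, add_zero])
    exact ⟨f, d + c • e, hef, ⟨c, rfl⟩, (hTS e he).1, hf, by rwa [← add_assoc], hef,
      by rwa [← add_assoc]⟩
  have key : ∀ e f d', MoveData P e f (f + d') → e ∈ W → d' ∈ P.orth W → ∀ x,
      act ρ g (P.B e x • d' + (P.ε * (P.B d' f * P.B e x - P.B d' x)) • e) =
        P.B e (act ρ g x) • d' + (P.ε * (P.B d' f * P.B e (act ρ g x) - P.B d' (act ρ g x))) • e := by
    intro e f d' h he hd x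
    have h1 := hcomm e f _ h he (by rwa [add_sub_cancel_left]) x
    rw [moveMap_apply, moveMap_apply, add_sub_cancel_left, add_assoc, add_assoc, map_add,
      add_right_inj] at h1
    exact h1
  have hmemO : ∀ {e d : V} (c : F), e ∈ W → d ∈ P.orth W → d + c • e ∈ P.orth W :=
    fun c he hd => add_mem hd ((P.orth W).smul_mem c (hWO he))
  -- every point of `W` is fixed
  have hpoint : ∀ e ∈ W, e ≠ 0 → act ρ g e ∈ F ∙ e := by
    intro e he he0
    have hes := (hTS e he).1
    rcases hsize with hn5 | ht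
    · have hd3 : 3 ≤ finrank F (P.orth W) := by
        have := three_le_finrank_orth hTS
        omega
      have himg : ∀ d ∈ P.orth W, d ∉ F ∙ e → act ρ g e ∈ Submodule.span F {d, e} := by
        intro d hd hde
        obtain ⟨f, d', hef, ⟨c, rfl⟩, hmd⟩ := hgen e he he0 d hd
        have hde' : d + c • e ∉ F ∙ e := fun h => hde (by
          simpa using sub_mem h (Submodule.smul_mem _ c (Submodule.mem_span_singleton_self e)))
        obtain ⟨x, hx, hx1⟩ := P.exists_sep hde'
        have h1 := key e f _ hmd he (hmemO c he hd) x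
        rw [hx e (Submodule.mem_span_singleton_self e), hx1, zero_smul, zero_add, mul_zero, zero_sub,
          mul_neg, mul_one, map_smul] at h1
        have h2 : -P.ε • act ρ g e ∈ Submodule.span F {d, e} := by
          rw [h1]
          have hd' : d ∈ Submodule.span F ({d, e} : Set V) := Submodule.subset_span (by simp)
          have he' : e ∈ Submodule.span F ({d, e} : Set V) := Submodule.subset_span (by simp)
          exact add_mem (Submodule.smul_mem _ _ (add_mem hd' (Submodule.smul_mem _ c he')))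
            (Submodule.smul_mem _ _ he')
        have h3 := Submodule.smul_mem _ (-P.ε)⁻¹ h2
        rwa [smul_smul, inv_mul_cancel₀ (neg_ne_zero.2 P.ε_ne), one_smul] at h3
      obtain ⟨d₁, hd₁, hd₁e⟩ : ∃ d ∈ P.orth W, d ∉ F ∙ e := SetLike.not_le_iff_exists.1 fun h => by
        have := Submodule.finrank_mono h
        rw [finrank_span_singleton he0] at this
        omega
      obtain ⟨d₂, hd₂, hd₂e⟩ : ∃ d ∈ P.orth W, d ∉ Submodule.span F {d₁, e} :=
        SetLike.not_le_iff_exists.1 fun h => by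
          have h1 := Submodule.finrank_mono h
          have h2 := finrank_span_finset_le_card (R := F) ({d₁, e} : Finset V)
          rw [Finset.coe_insert, Finset.coe_singleton] at h2
          have h3 : ({d₁, e} : Finset V).card ≤ 2 := Finset.card_le_two
          simp only [Set.finrank] at h2
          omega
      obtain ⟨a₁, b₁, h1⟩ := Submodule.mem_span_pair.1 (himg d₁ hd₁ hd₁e)
      obtain ⟨a₂, b₂, h2⟩ := Submodule.mem_span_pair.1 (himg d₂ hd₂ fun h => hd₂e
        (Submodule.span_mono (by simp) h))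
      have ha : a₂ = 0 := by
        by_contra ha
        refine hd₂e (Submodule.mem_span_pair.2 ⟨a₂⁻¹ * a₁, a₂⁻¹ * (b₁ - b₂), ?_⟩)
        have h3 : a₂ • d₂ = a₁ • d₁ + (b₁ - b₂) • e := by
          rw [sub_smul, ← add_sub_assoc, h1, ← h2, add_sub_cancel_right]
        rw [← smul_smul, ← smul_smul, ← smul_add, ← h3, smul_smul, inv_mul_cancel₀ ha, one_smul]
      rw [← h2, ha, zero_smul, zero_add]
      exact Submodule.smul_mem _ _ (Submodule.mem_span_singleton_self e)
    · obtain ⟨f, hf, hef⟩ := exists_partner he0 hes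
      obtain ⟨c, hc0, hc⟩ : ∃ c : F, c ≠ 0 ∧ P.Sing (f + c • e) := by
        by_contra! h
        have : Subsingleton {c : F // P.Sing (f + c • e)} := ⟨fun a b => Subtype.ext (by
          rw [show a.1 = 0 from by_contra fun ha => h a.1 ha a.2,
            show b.1 = 0 from by_contra fun hb => h b.1 hb b.2])⟩
        have h1 : Nat.card {c : F // P.Sing (f + c • e)} ≤ 1 := Finite.card_le_one_iff_subsingleton.2 this
        rw [P.card_partner e f hes hef] at h1
        omega
      have hmd : MoveData P e f (f + c • e) := ⟨hes, hf, hc, hef,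
        by rw [map_add, hef, B_smul_right, P.sing_self e hes, mul_zero, add_zero]⟩
      have h1 := key e f _ hmd he ((P.orth W).smul_mem c (hWO he)) f
      rw [hef, mul_one, sub_self, mul_zero, zero_smul, add_zero, one_smul, map_smul] at h1
      have h2 : c • act ρ g e ∈ F ∙ e := by
        rw [h1, smul_smul, ← add_smul]
        exact Submodule.smul_mem _ _ (Submodule.mem_span_singleton_self e)
      have h3 := Submodule.smul_mem _ c⁻¹ h2
      rwa [smul_smul, inv_mul_cancel₀ hc0, one_smul] at h3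
  -- hence it acts as a scalar on `W`
  obtain ⟨e, he, he0⟩ := Submodule.exists_mem_ne_zero_of_ne_bot hW0
  obtain ⟨lam, hlam⟩ := Submodule.mem_span_singleton.1 (hpoint e he he0)
  have hlam0 : lam ≠ 0 := fun h => he0 (by
    rw [h, zero_smul] at hlam
    exact (LinearEquiv.map_eq_zero_iff _).1 hlam.symm)
  have hW : ∀ w ∈ W, act ρ g w = lam • w := fun w hw => by
    by_cases hwe : w ∈ F ∙ e
    · obtain ⟨c, rfl⟩ := Submodule.mem_span_singleton.1 hwe
      rw [map_smul, ← hlam, smul_smul, smul_smul, mul_comm]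
    obtain ⟨a, ha⟩ := Submodule.mem_span_singleton.1
      (hpoint w hw fun h => hwe (h ▸ zero_mem _))
    obtain ⟨b, hb⟩ := Submodule.mem_span_singleton.1 (hpoint (e + w) (add_mem he hw) fun h =>
      hwe (by rw [← neg_eq_of_add_eq_zero_right h]; exact neg_mem (Submodule.mem_span_singleton_self e)))
    have h1 : (b - lam) • e = (a - b) • w := by
      rw [map_add, ← hlam, ← ha, smul_add] at hb
      rw [sub_smul, sub_smul, sub_eq_sub_iff_add_eq_add, hb, add_comm]
    have hab : a - b = 0 := by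
      by_contra h
      refine hwe (Submodule.mem_span_singleton.2 ⟨(a - b)⁻¹ * (b - lam), ?_⟩)
      rw [← smul_smul, h1, smul_smul, inv_mul_cancel₀ h, one_smul]
    rw [hab, zero_smul, smul_eq_zero, or_iff_left he0] at h1
    rw [← ha, sub_eq_zero.1 hab, sub_eq_zero.1 h1]
  set μ := P.σ lam⁻¹ with hμ
  have hBW : ∀ w ∈ W, ∀ x, P.B w (act ρ g x) = μ * P.B w x := fun w hw x => by
    have hw' : act ρ g (lam⁻¹ • w) = w := by
      rw [hW _ (W.smul_mem _ hw), smul_smul, mul_inv_cancel₀ hlam0, one_smul]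
    rw [← hw', act_B, B_smul_left, hw']
  have hO : ∀ x ∈ P.orth W, act ρ g x ∈ P.orth W := fun x hx w hw => by
    rw [hBW w hw, hx w hw, mul_zero]
  -- the action on the orthogonal modulo `W`
  have hmid : ∀ x ∈ P.orth W, act ρ g x - lam • x ∈ W := fun x hx =>
    mem_of_mem_orth_orth fun d hd => by
      obtain ⟨f, d', hef, ⟨c, rfl⟩, hmd⟩ := hgen e he he0 d hd
      have h1 := key e f _ hmd he (hmemO c he hd) x
      rw [hx e he, hO x hx e he, zero_smul, zero_add, zero_add, mul_zero, zero_sub,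
        zero_sub, map_smul, ← hlam, smul_smul] at h1
      have h2 := smul_left_injective F he0 h1
      rw [B_add_left, B_add_left, B_smul_left, B_smul_left, hx e he, hO x hx e he, mul_zero,
        add_zero, add_zero] at h2
      have h3 : lam * P.B d x = P.B d (act ρ g x) :=
        mul_left_cancel₀ (neg_ne_zero.2 P.ε_ne) (by linear_combination h2)
      rw [map_sub, B_smul_right, ← h3, sub_self]
  -- the multiplier is one
  have hμlam : μ = lam := by
    obtain ⟨d, hd, hout⟩ : ∃ d ∈ P.orth W, (d ∉ W ∨ (P.orth W ≤ W ∧ d ∉ F ∙ e)) := by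
      by_cases h : P.orth W ≤ W
      · obtain ⟨d, hd, hde⟩ : ∃ d ∈ P.orth W, d ∉ F ∙ e := SetLike.not_le_iff_exists.1 fun h => by
          have := Submodule.finrank_mono h
          rw [finrank_span_singleton he0] at this
          omega
        exact ⟨d, hd, Or.inr ⟨h, hde⟩⟩
      · obtain ⟨d, hd, hdW⟩ := SetLike.not_le_iff_exists.1 h
        exact ⟨d, hd, Or.inl hdW⟩
    obtain ⟨f, d', hef, ⟨c, rfl⟩, hmd⟩ := hgen e he he0 d hd
    have h1 := key e f _ hmd he (hmemO c he hd) f
    rw [hef, mul_one, sub_self, mul_zero, zero_smul, add_zero, one_smul, hBW e he, hef, mul_one] at h1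
    by_contra hne
    have hne' := sub_ne_zero.2 (Ne.symm hne)
    set r := P.ε * (P.B (d + c • e) f * μ - P.B (d + c • e) (act ρ g f)) with hr
    rcases hout with hdW | ⟨hle, hde⟩
    · have h2 := hmid _ (hmemO c he hd)
      rw [h1, show μ • (d + c • e) + r • e - lam • (d + c • e) =
        -(lam - μ) • (d + c • e) + r • e by rw [neg_sub, sub_smul]; abel] at h2
      have h3 := W.smul_mem (-(lam - μ))⁻¹ (sub_mem h2 (W.smul_mem r he))
      rw [add_sub_cancel_right, smul_smul, inv_mul_cancel₀ (neg_ne_zero.2 hne'), one_smul] at h3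
      exact hdW (by simpa using sub_mem h3 (W.smul_mem c he))
    · rw [hW _ (hle (hmemO c he hd))] at h1
      have h2 : (lam - μ) • (d + c • e) = r • e := by rw [sub_smul, h1, add_sub_cancel_left]
      refine hde ?_
      have h3 : d + c • e ∈ F ∙ e := by
        rw [← one_smul F (d + c • e), ← inv_mul_cancel₀ hne', ← smul_smul, h2, smul_smul]
        exact Submodule.smul_mem _ _ (Submodule.mem_span_singleton_self e)
      simpa using sub_mem h3 (Submodule.smul_mem _ c (Submodule.mem_span_singleton_self e))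
  refine ⟨lam, hlam0, hW, hmid, fun x w hw => ?_⟩
  rw [map_sub, hBW w hw, B_smul_right, hμlam, sub_self]

omit [Finite V] [FiniteDimensional F V] [Finite F] in
theorem pow_eq_smul {p : ℕ} [Fact p.Prime] [CharP F p] [Nontrivial V] {W : Submodule F V} {g : G}
    {lam : F} (h1 : ∀ w ∈ W, act ρ g w = lam • w) (h2 : ∀ x ∈ P.orth W, act ρ g x - lam • x ∈ W)
    (h3 : ∀ x, act ρ g x - lam • x ∈ P.orth W) (v : V) :
    act ρ (g ^ p ^ 2) v = lam ^ p ^ 2 • v := by
  set T : Module.End F V := (act ρ g : V →ₗ[F] V) with hT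
  have : CharP (Module.End F V) p :=
    charP_of_injective_algebraMap (RingHom.injective (algebraMap F (Module.End F V))) p
  set L : Module.End F V := algebraMap F (Module.End F V) lam with hL
  have hTL : ∀ x, (T - L) x = act ρ g x - lam • x := fun x => rfl
  have h4 : (T - L) ^ 3 = 0 := LinearMap.ext fun x => by
    show (T - L) ((T - L) ((T - L) x)) = 0
    rw [hTL ((T - L) ((T - L) x)), hTL ((T - L) x), hTL x, h1 _ (h2 _ (h3 x)), sub_self]
  have h5 : (T - L) ^ (p ^ 2) = 0 :=
    pow_eq_zero_of_le (by nlinarith [(Fact.out : p.Prime).two_le]) h4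
  rw [sub_pow_char_pow_of_commute p 2 (Algebra.commutes lam T).symm, sub_eq_zero, ← map_pow] at h5
  have hpow : ∀ (n : ℕ) (v : V), act ρ (g ^ n) v = (T ^ n) v := by
    intro n
    induction n with
    | zero => intro v; rw [pow_zero, pow_zero, act_one]; rfl
    | succ n ih => intro v; rw [pow_succ, act_mul, ih, pow_succ]; rfl
  rw [hpow, h5]
  rfl

variable [Finite G] (hmoves : P.moves ⊆ Set.range ρ)
include hmoves hsq hrefl

/-- The projective group of isometries has the property. -/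
theorem rad_polar {G' : Type*} [Group G'] (π : G →* G') (hπ : Function.Surjective π)
    (hker : π.ker = Subgroup.center G) (hinj : Function.Injective ρ) {p : ℕ} [Fact p.Prime]
    [CharP F p] (hn : 2 < finrank F V) (hsize : 4 < finrank F V ∨ 2 ≤ P.t) {e : V} (he : e ≠ 0)
    (hes : P.Sing e) : Rad p G' := by
  classical
  have : Nontrivial V := ⟨⟨e, 0, he⟩⟩
  refine rad_of_surjective π hπ hker.le ?_ fun D hD hne => ?_
  · -- a central element of order `p` fixes all singular vectors
    refine ((Fact.out : p.Prime).coprime_iff_not_dvd.2 fun hd => ?_).symm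
    obtain ⟨z, hz⟩ := exists_prime_orderOf_dvd_card' p hd
    have hzp : (z : G) ^ p = 1 := by
      rw [← Subgroup.coe_pow, ← hz, pow_orderOf_eq_one, Subgroup.coe_one]
    have hfix : ∀ s : V, P.Sing s → act ρ (z : G) s = s := by
      intro s hs
      rcases eq_or_ne s 0 with rfl | hs0
      · exact map_zero _
      have hTS : P.TS (F ∙ s) := fun a ha => by
        obtain ⟨c, rfl⟩ := Submodule.mem_span_singleton.1 ha
        refine ⟨P.sing_smul c s hs, fun b hb => ?_⟩
        obtain ⟨c', rfl⟩ := Submodule.mem_span_singleton.1 hb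
        rw [B_smul_left, B_smul_right, P.sing_self s hs, mul_zero, mul_zero]
      obtain ⟨lam, -, hlam, -⟩ := scalar_of_commute ρ hn hsize
        (by simpa using hs0) hTS (z : G) fun e f f' h _ _ x => by
          obtain ⟨q, -, -, hqv⟩ := exists_move ρ hmoves h
          rw [← hqv, ← hqv, ← act_mul, ← act_mul, Subgroup.mem_center_iff.1 (hker.le z.2) q]
      have hs' := hlam s (Submodule.mem_span_singleton_self s)
      have hpow : ∀ n : ℕ, act ρ ((z : G) ^ n) s = lam ^ n • s := by
        intro n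
        induction n with
        | zero => rw [pow_zero, pow_zero, one_smul, act_one]
        | succ n ih => rw [pow_succ, act_mul, hs', map_smul, ih, smul_smul, ← pow_succ']
      have h1 := hpow p
      rw [hzp, act_one] at h1
      have h2 : lam ^ p = 1 := smul_left_injective F hs0
        (show lam ^ p • s = (1 : F) • s by rw [one_smul]; exact h1.symm)
      have h3 : (lam - 1) ^ p = 0 := by rw [sub_pow_char, h2, one_pow, sub_self]
      rw [hs', sub_eq_zero.1 (eq_zero_of_pow_eq_zero h3), one_smul]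
    have hz1 : (z : G) = 1 := eq_one_of_act ρ hinj fun v =>
      sub_eq_zero.1 (eq_zero_of_perp_sing he hes fun s hs => by
        rw [B_sub_left]
        nth_rw 1 [← hfix s hs]
        rw [act_B, sub_self])
    rw [show z = 1 from Subtype.ext hz1, orderOf_one] at hz
    exact (Fact.out : p.Prime).one_lt.ne hz
  obtain ⟨W, hW0, hTS, hWi⟩ := exists_invariant_ts ρ hsq hrefl hinj hD hne
  refine ⟨polarRad ρ W, polarRad_isPGroup ρ hinj W, normalizer_le_polarRad ρ hWi, fun g hg => ⟨2, ?_⟩⟩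
  obtain ⟨lam, -, h1, h2, h3⟩ := scalar_of_commute ρ hn hsize hW0 hTS g fun a f f' h ha hd x => by
    obtain ⟨q, hq, -, hqv⟩ := exists_move ρ hmoves h
    have hqW : q ∈ polarRad ρ W := by
      refine ⟨fun w hw => ?_, fun y hy => ?_⟩
      · rw [hqv, moveMap_apply, (hTS a ha).2 w hw, P.swap_zero (hd w hw)]
        simp
      · rw [hqv, moveMap_apply, hy a ha, zero_smul, add_zero, add_sub_cancel_left]
        exact W.smul_mem _ ha
    rw [← hqv, ← hqv, ← act_mul, ← act_mul, Subgroup.mem_centralizer_iff.1 hg q hqW]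
  rw [← map_pow, ← MonoidHom.mem_ker, hker, Subgroup.mem_center_iff]
  intro k
  refine hinj (isom_ext fun v => ?_)
  show act ρ (k * g ^ p ^ 2) v = act ρ (g ^ p ^ 2 * k) v
  rw [act_mul, act_mul, pow_eq_smul ρ h1 h2 h3, pow_eq_smul ρ h1 h2 h3, map_smul]

end Cfsg.Agent.RadProp
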