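import Cfsg.Agent.RadProp.Core
import Cfsg.Agent.Suzuki.Sylow
import Cfsg.Agent.Chev.Ree.Point

/-!
The groups of rank one: Sylow subgroups with trivial intersections.
-/

set_option autoImplicit false

namespace Cfsg.Agent.RadProp

open Subgroup

universe u

theorem rad_of_ti {G : Type u} [Group G] [Finite G] {p : ℕ} [Fact p.Prime] (S : Sylow p G)
    (hti : ∀ g u : G, u ∈ S → u ≠ 1 → g * u * g⁻¹ ∈ S → ∀ y ∈ S, g * y * g⁻¹ ∈ S)
    (hc : ∀ x ∈ centralizer ((S : Subgroup G) : Set G), x ∈ S) : Rad p G := by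
  intro D hD hne
  obtain ⟨T, hT⟩ := hD.exists_le_sylow
  obtain ⟨f, rfl⟩ := MulAction.exists_smul_eq G S T
  have hmem : ∀ x, x ∈ f • S ↔ f⁻¹ * x * f ∈ S := fun x => by
    show x ∈ ((f • S : Sylow p G) : Subgroup G) ↔ f⁻¹ * x * f ∈ (S : Subgroup G)
    rw [Sylow.coe_subgroup_smul, mem_pointwise_smul_iff_inv_smul_mem]
    simp [MulAut.smul_def]
  refine ⟨((f • S : Sylow p G) : Subgroup G), (f • S).2, fun g hg => ?_, fun ⟨x, hx⟩ => ?_⟩
  · refine mem_normalizer_of_conj_mem fun y hy => (hmem _).2 ?_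
    obtain ⟨d, hd, hd1⟩ : ∃ d, d ∈ D ∧ d ≠ (1 : G) := by
      by_contra! h
      exact hne (D.eq_bot_iff_forall.2 h)
    have hdn : f⁻¹ * d * f ≠ 1 := fun e => hd1 (by
      calc d = f * (f⁻¹ * d * f) * f⁻¹ := by group
        _ = 1 := by rw [e]; group)
    have h1 := hti (f⁻¹ * g * f) (f⁻¹ * d * f) ((hmem d).1 (hT hd)) hdn
      (by
        have := (hmem _).1 (hT ((mem_normalizer_iff.1 hg d).1 hd))
        simpa [mul_assoc] using this)
      _ ((hmem y).1 hy)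
    simpa [mul_assoc] using h1
  · have hxS : x ∈ f • S := (hmem x).2 (hc _ (mem_centralizer_iff.2 fun y hy => by
      have hy' : f * y * f⁻¹ ∈ f • S := (hmem _).2 (by simpa [mul_assoc] using hy)
      have h1 := mem_centralizer_iff.1 hx _ hy'
      calc y * (f⁻¹ * x * f) = f⁻¹ * (f * y * f⁻¹ * x) * f := by group
        _ = f⁻¹ * (x * (f * y * f⁻¹)) * f := by rw [h1]
        _ = f⁻¹ * x * f * y := by group))
    obtain ⟨k, hk⟩ := (f • S).2 ⟨x, hxS⟩
    exact ⟨k, Subtype.ext (congrArg Subtype.val hk :)⟩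

section Suzuki

open Cfsg.Agent.RankOne.Ovoid MulAction

variable {F : Type u} [Field F] [Fintype F] {m : ℕ}

theorem rad_sz [Fact (Nat.Prime 2)] (hm : 1 ≤ m) (hF : Fintype.card F = 2 ^ (2 * m + 1)) :
    Rad 2 (Cfsg.Sz F m) := by
  have hG := RankOne.Ovoid.good_of_card (m := m) hF
  refine rad_of_ti (Cfsg.Agent.Suzuki.sylowU hG hm hF) (fun g u hu h1 hgu y hy =>
    Cfsg.Agent.Suzuki.conj_mem_U hG hm hF (Cfsg.Agent.Suzuki.fix_of_conj_mem_U hG hu h1 hgu) hy)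
    fun x hx => Cfsg.Agent.Suzuki.centralizer_le_U hG hm hF (Cfsg.Agent.Suzuki.T_mem hG 0 1)
      (Cfsg.Agent.Suzuki.T_ne_one hG) (mem_centralizer_singleton_iff.2
        (mem_centralizer_iff.1 hx _ (Cfsg.Agent.Suzuki.T_mem hG 0 1)).symm)

theorem rad_isoSuzuki {G : Type*} [Group G] [Fact (Nat.Prime 2)] (h : Cfsg.Lie.IsoSuzuki G) :
    Rad 2 G := by
  obtain ⟨F, _, _, m, hm, hF, ⟨e⟩⟩ := h
  exact rad_of_mulEquiv (e.trans (Cfsg.Agent.Suzuki.nonempty_equiv hm hF).some.symm).symm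
    (rad_sz hm hF)

end Suzuki

section Ree

open Cfsg.Lie Cfsg.Agent.Chev

variable {K : Type u} [Field K] [Fintype K] [CharP K 3] {m : ℕ}

theorem rad_ree [Fact (Nat.Prime 3)] (hK : Fintype.card K = 3 ^ (2 * m + 1)) :
    Rad 3 ↥(twistedG2 K (3 ^ m)) := by
  have hS : ∀ x, x ∈ Chev.Ree.U1s hK ↔ x ∈ Chev.Ree.U1 K m := fun x => by
    rw [← Chev.Ree.coe_U1s hK]
    rfl
  refine rad_of_ti (Chev.Ree.U1s hK) (fun g u hu h1 hgu y hy => ?_) fun x hx => ?_
  · rw [hS] at hu hgu hy ⊢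
    refine Chev.Ree.B1_conj_U1 hK (Chev.Ree.mem_B1_of_conj hK hgu ?_ ?_) hy
    · simpa [mul_assoc] using hu
    · rwa [Ne, conj_eq_one_iff]
  · rw [hS]
    set z : ↥(twistedG2 K (3 ^ m)) := Chev.Ree.rr ((0, 0, 1) : K × K × K) with hz
    have hzU : z ∈ Chev.Ree.U1 K m := Chev.Ree.rr_mem_U1 hK _
    have hz1 : z ≠ 1 := fun h => one_ne_zero (congrArg (·.2.2) (Chev.Ree.rr_eq_one h))
    have hxz : x * z = z * x := ((mem_centralizer_iff.1 hx z) ((hS z).2 hzU)).symm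
    obtain ⟨q, c, rfl⟩ := (Chev.Ree.mem_B1 hK).1 (Chev.Ree.centralizer_le_B1 hK hzU hz1 hxz)
    obtain ⟨t, u, v⟩ := q
    have hcent : Chev.Ree.rr (m := m) ((0, 0, 1) : K × K × K) * Chev.Ree.rr (t, u, v) =
        Chev.Ree.rr (t, u, v) * Chev.Ree.rr ((0, 0, 1) : K × K × K) := by
      rw [Chev.Ree.rr_mul hK, Chev.Ree.rr_mul hK]
      simp [Chev.Ree.tw_zero, add_comm]
    have h1 : Chev.Ree.tt hK c * z = z * Chev.Ree.tt hK c := by
      rw [mul_assoc, hz, ← mul_assoc (Chev.Ree.rr ((0, 0, 1) : K × K × K)), hcent,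
        mul_assoc, ← hz] at hxz
      exact mul_left_cancel hxz
    have h2 : Chev.Ree.rr ((0, 0, (c : K)) : K × K × K) = z := by
      have := Chev.Ree.tt_conj_rr hK c 0 0 1
      rw [mul_zero, mul_zero, mul_one, ← hz, h1, mul_inv_cancel_right] at this
      exact this.symm
    have hc : c = 1 := Units.ext (congrArg (·.2.2) (Chev.Ree.rr_injective h2) :)
    rw [hc, map_one, mul_one]
    exact Chev.Ree.rr_mem_U1 hK _

theorem rad_isoRee {G : Type*} [Group G] [Fact (Nat.Prime 3)] (h : IsoRee G) : Rad 3 G := by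
  obtain ⟨K, _, _, m, -, hK, ⟨e⟩⟩ := h
  have := Chev.Ree.charP_three hK
  exact rad_of_mulEquiv e.symm (rad_ree hK)

end Ree

end Cfsg.Agent.RadProp
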