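import Cfsg.Agent.RadProp.Chev
import Cfsg.Agent.Chev.ReeF4BT.Main
import Cfsg.Agent.Chev.ReeF4.Stmts
import Cfsg.Agent.ChevAut.ReeF4Out.Norm

/-!
The groups ²F₄: centralizers of the radicals of local subgroups.
-/

set_option autoImplicit false
set_option maxRecDepth 100000

namespace Cfsg.Agent.RadProp

open Cfsg.Lie Cfsg.Agent.Chev Cfsg.Agent.Chev.ReeF4 Subgroup
open scoped MatrixGroups

universe u

/-- The piece of the other orbit lies in the radical of an orbit. -/
theorem reeF4_piece : ∀ a : Fin 2, ∀ r : Fin chevF4.nroots, half chevF4 ≤ (r : ℕ) →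
    (wA (a + 1) r : ℕ) < half chevF4 → half chevF4 ≤ (wA a r : ℕ) := by decide +kernel

/-- No cell except the first centralizes the radical of an orbit. -/
theorem reeF4_cells : ∀ a : Fin 2, ∀ k : Fin 16, k ≠ 0 →
    (∀ r : Fin chevF4.nroots, half chevF4 ≤ (r : ℕ) → (wA (a + 1) r : ℕ) < half chevF4 →
      (pW (wd k).reverse r : ℕ) < half chevF4) ∨
    (∀ r : Fin chevF4.nroots, half chevF4 ≤ (r : ℕ) → (wA (a + 1) r : ℕ) < half chevF4 →
      half chevF4 ≤ (pW (wd k).reverse r : ℕ) ∧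
        half chevF4 ≤ (wA (a + 1) (pW (wd k).reverse r) : ℕ)) ∨
    (∀ r : Fin chevF4.nroots, half chevF4 ≤ (r : ℕ) → (wA (a + 1) r : ℕ) < half chevF4 →
      (pW (wd k).reverse (wA a r) : ℕ) < half chevF4) := by decide +kernel

/-- In characteristic two the two top roots commute with all positive roots. -/
theorem reeF4_top_tables : ∀ r ∈ [44, 47], ∀ s : Fin chevF4.nroots, half chevF4 ≤ (s : ℕ) →
    (s : ℕ) = r ∨ ((s : ℕ) ≠ chevF4.neg r ∧
      (chevF4.commTerms r s).all fun c => c.2.1 % 2 == 0) := by decide +kernel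

theorem reeF4_top_values : (∀ r : Fin chevF4.nroots, ((r : ℕ) = 44 ∨ (r : ℕ) = 47) →
      half chevF4 ≤ (r : ℕ) ∧ ∀ a : Fin 2, half chevF4 ≤ (wA a r : ℕ)) ∧
    ((f4Spec.ρ (⟨44, by decide⟩ : Fin chevF4.nroots) : ℕ),
      f4Spec.lam (⟨44, by decide⟩ : Fin chevF4.nroots)) = (47, 2) ∧
    ((f4Spec.ρ (⟨47, by decide⟩ : Fin chevF4.nroots) : ℕ),
      f4Spec.lam (⟨47, by decide⟩ : Fin chevF4.nroots)) = (44, 1) ∧
    ([0, 1, 2, 3] : List (Fin 4)).map (fun j : Fin 4 => chevF4.cartan j 44) = [1, 0, 0, 0] ∧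
    ([0, 1, 2, 3] : List (Fin 4)).map (fun j : Fin 4 => chevF4.cartan j 24) = [0, 0, -1, 2] ∧
    ([0, 1, 2, 3] : List (Fin 4)).map (fun j : Fin 4 => chevF4.cartan j 28) = [-1, 0, 1, -1] := by
  decide +kernel

variable {K : Type u} [Field K] {m : ℕ}

theorem reeF4_radical_eq (a : Fin 2) :
    chevF4.unipotentRadical K (jA a) = uPlus facts_chevF4 (wA a) := by
  refine unipotentRadical_eq facts_chevF4 (jA a) fun r hr => ((wA_inverted a r hr).2.trans ?_)
  refine forall_congr' fun j => imp_congr_left ?_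
  rw [not_iff_not, mem_idxSet]
  exact ⟨fun h => ⟨j, h, rfl⟩, fun ⟨i, hi, e⟩ => Fin.ext e ▸ hi⟩

variable [CharP K 2]

/-- The rational points of the radical of an orbit. -/
noncomputable def reeF4Rad (K : Type u) [Field K] [CharP K 2] (m : ℕ) (a : Fin 2) :
    Subgroup (GL chevF4.Idx K) :=
  chevF4.unipotentRadical K (jA a) ⊓ fx m

theorem fm_le_reeF4Rad (a : Fin 2) : fm K m (wA (a + 1)) ≤ reeF4Rad K m a := by
  refine inf_le_inf_right _ ?_
  rw [reeF4_radical_eq]
  refine (closure_le _).2 ?_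
  rintro g ⟨r, t, h1, h2, rfl⟩
  exact subset_closure ⟨r, t, h1, reeF4_piece a r h1 h2, rfl⟩

theorem parabolic_fx_normalizes {a : Fin 2} {x y : GL chevF4.Idx K}
    (hx : x ∈ chevF4.parabolicSubgroup K (jA a)) (hxf : x ∈ fx m) (hy : y ∈ reeF4Rad K m a) :
    x * y * x⁻¹ ∈ reeF4Rad K m a :=
  ⟨(mem_normalizer_iff.1 (parabolic_le_normalizer facts_chevF4 (jA a) hx) y).1 hy.1,
    Subgroup.mul_mem _ (Subgroup.mul_mem _ hxf hy.2) (Subgroup.inv_mem _ hxf)⟩

theorem top_commute {r : ℕ} (hr : r ∈ [44, 47]) (t : K) {v : GL chevF4.Idx K}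
    (hv : v ∈ chevF4.posUnipotent K) : Commute v (X r t) := by
  have hr48 : r < chevF4.nroots := by
    simp only [List.mem_cons, List.not_mem_nil, or_false] at hr
    rcases hr with rfl | rfl <;> decide
  suffices h : chevF4.posUnipotent K ≤ centralizer {X r t} from
    ((mem_centralizer_singleton_iff.1 (h hv)) :)
  refine (closure_le _).2 ?_
  rintro g ⟨s, w, hs, e⟩
  obtain rfl : g = xG facts_chevF4 s w := Units.ext e
  refine mem_centralizer_singleton_iff.2 ?_
  show X s w * X r t = X r t * X s w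
  rcases reeF4_top_tables r hr ⟨s, hs.1⟩ ((facts_chevF4.{u}.posRoot_iff s hs.1).1 hs) with
    e | ⟨hn, hall⟩
  · simp only at e
    subst e
    rw [xG_mul, xG_mul, add_comm]
  · by_cases hsr : s = r
    · subst hsr
      rw [xG_mul, xG_mul, add_comm]
    have hw : wordG facts_chevF4 (chevF4.commWord K r s t w) = 1 := by
      simp only [List.all_eq_true, beq_iff_eq] at hall
      rw [wordG]
      refine List.prod_eq_one fun y hy => ?_
      obtain ⟨p, hp, rfl⟩ := List.mem_map.1 hy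
      obtain ⟨c, hc, rfl⟩ := List.mem_map.1 hp
      have h0 : ((c.2.1 : ℤ) : K) = 0 :=
        (CharP.intCast_eq_zero_iff K 2 _).2 (Int.dvd_of_emod_eq_zero (hall c hc))
      simp [h0, xG_zero]
    have := xG_comm facts_chevF4 hr48 hs.1 hsr hn t w
    rw [hw, mul_one] at this
    exact this

variable [Fintype K] (hK : Fintype.card K = 2 ^ (2 * m + 1))
include hK

omit [Fintype K] hK in
theorem reeF4_borel_normalizes {g : GL chevF4.Idx K} (hg : g ∈ Bf K m) {a : Fin 2}
    {y : GL chevF4.Idx K} (hy : y ∈ reeF4Rad K m a) : g * y * g⁻¹ ∈ reeF4Rad K m a :=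
  parabolic_fx_normalizes (Bf_le_Pa a hg).1 hg.2 hy

/-- An element centralizing the radical of an orbit lies in the Borel subgroup. -/
theorem reeF4_mem_Bf {a : Fin 2} {g : GL chevF4.Idx K} (hg : g ∈ fx m)
    (hcen : ∀ y ∈ reeF4Rad K m a, g * y * g⁻¹ = y) : g ∈ Bf K m := by
  have hm := isTheta hK
  obtain ⟨u, hu, h, hh, k, y, hy, rfl⟩ := exists_nf hg
  have hb : u * h ∈ Bf K m := (mem_borel_fx hm).2 ⟨u, hu, h, hh, rfl⟩
  have hyB : y ∈ Bf K m := U1_le_borel_fx hm (fm_le_U1 _ hy)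
  have hβ : y * (u * h) ∈ Bf K m := mul_mem hyB hb
  by_cases hk : k = 0
  · subst hk
    rw [show nW (wd 0) = (1 : GL chevF4.Idx K) from nW_nil, mul_one]
    exact mul_mem hb hyB
  exfalso
  set n : GL chevF4.Idx K := nW (wd k) with hn
  set β := y * (u * h) with hβe
  have key : ∀ Y ∈ reeF4Rad K m a, n⁻¹ * Y * n = β * Y * β⁻¹ := fun Y hY => by
    have h1 := hcen _ (reeF4_borel_normalizes hb hY)
    calc n⁻¹ * Y * n = n⁻¹ * ((u * h)⁻¹ * (u * h * Y * (u * h)⁻¹) * (u * h)) * n := by group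
      _ = n⁻¹ * ((u * h)⁻¹ * (u * h * n * y * (u * h * Y * (u * h)⁻¹) * (u * h * n * y)⁻¹)
            * (u * h)) * n := by rw [h1]
      _ = β * Y * β⁻¹ := by rw [hβe]; group
  have hni : IsMon facts_chevF4.{u} n⁻¹ (pW (wd k).reverse) := by
    rw [← pW_inv]
    exact isMon_inv' facts_chevF4 (isMon_nW (wd k))
  obtain ⟨Y, hY, hY1⟩ := exists_fm_ne_one hm (a + 1)
  have hYR := fm_le_reeF4Rad a hY
  -- a conjugate with only negative roots is trivial
  have hneg : ∀ Z ∈ reeF4Rad K m a, n⁻¹ * Z * n ∈ chevF4.negUnipotent K → Z = 1 := fun Z hZ hZn => by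
    have h1 : n⁻¹ * Z * n = 1 := borel_inf_upper facts_chevF4 (mem_sup_left (by
      rw [key Z hZ]
      exact radical_le_posUnipotent _ (reeF4_borel_normalizes hβ hZ).1))
      (negUnipotent_le_upperGroup facts_chevF4 hZn)
    calc Z = n * (n⁻¹ * Z * n) * n⁻¹ := by group
      _ = 1 := by rw [h1]; group
  rcases reeF4_cells a k hk with hc | hc | hc
  · refine hY1 (hneg Y hYR ?_)
    have h1 : Y ∈ uMinus facts_chevF4 (pW (wd k).reverse) (F := K) := closure_mono (by
      rintro g ⟨r, t, h1, h2, e⟩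
      exact ⟨r, t, h1, hc r h1 h2, e⟩) hY.1
    have h2 := conj_uMinus facts_chevF4 hni h1
    rwa [inv_inv] at h2
  · -- the torus preserves the piece and the two sides meet trivially
    obtain ⟨v, hv, t, ht, e⟩ := (mem_borel_fx hm).1 hβ
    have hY' := torus_conj_fm hm ht hY
    obtain ⟨v₂, hv₂, w, hw, rfl⟩ :=
      posUnipotent_split facts_chevF4 (wA (a + 1)) hv.1
    have h1 : n⁻¹ * Y * n ∈ uPlus facts_chevF4 (wA (a + 1)) (F := K) := by
      have h2 := conj_uGens_le facts_chevF4 hni (M := uPlus facts_chevF4 (wA (a + 1)))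
        (fun r h1 h2 s => subset_closure ⟨_, s, (hc r h1 h2).1, (hc r h1 h2).2, rfl⟩) hY.1
      rwa [inv_inv] at h2
    have h2 : w * (t * Y * t⁻¹) * w⁻¹ ∈ uPlus facts_chevF4 (wA (a + 1)) (F := K) := by
      have : w * (t * Y * t⁻¹) * w⁻¹ = v₂⁻¹ * (n⁻¹ * Y * n) * v₂ := by
        rw [key Y hYR, e]; group
      rw [this]
      exact mul_mem (mul_mem (inv_mem hv₂) h1) hv₂
    have h3 := uPlus_inf_uMinus facts_chevF4 (isMon_sO (a + 1)) h2
      (mul_mem (mul_mem hw hY'.1) (inv_mem hw))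
    rw [conj_eq_one_iff, conj_eq_one_iff] at h3
    exact hY1 h3
  · refine hY1 ?_
    have h0 : sO a * Y * sO a = 1 := by
      have hZ := parabolic_fx_normalizes (sO_mem_parabolic a) (sO_mem_fx a) hYR
      rw [sO_inv] at hZ
      refine hneg _ hZ ?_
      have hni' := isMon_mul facts_chevF4 hni (isMon_sO a)
      have h1 : Y ∈ uMinus facts_chevF4 (pW (wd k).reverse * wA a) (F := K) := closure_mono (by
        rintro g ⟨r, t, h1, h2, e⟩
        exact ⟨r, t, h1, hc r h1 h2, e⟩) hY.1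
      have h2 := conj_uMinus facts_chevF4 hni' h1
      rwa [_root_.mul_inv_rev, inv_inv, sO_inv,
        show n⁻¹ * sO a * Y * (sO a * n) = n⁻¹ * (sO a * Y * sO a) * n by group] at h2
    calc Y = (sO a * sO a) * Y * (sO a * sO a) := by rw [sO_sq, one_mul, mul_one]
      _ = sO a * (sO a * Y * sO a) * sO a := by group
      _ = 1 := by rw [h0, mul_one, sO_sq]

/-- An element centralizing the radical of an orbit lies in the Sylow subgroup. -/
theorem reeF4_centralizer {a : Fin 2} {g : GL chevF4.Idx K} (hg : g ∈ fx m)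
    (hcen : ∀ y ∈ reeF4Rad K m a, g * y * g⁻¹ = y) : g ∈ U1 K m := by
  have hm := isTheta hK
  obtain ⟨v, hv, t, ht, rfl⟩ := (mem_borel_fx hm).1 (reeF4_mem_Bf hK hg hcen)
  obtain ⟨p, rfl⟩ := ht
  obtain ⟨hpos, h44, h47, c44, c24, c28⟩ := reeF4_top_values
  simp only [List.map_cons, List.map_nil, List.cons.injEq, and_true] at c44 c24 c28
  set c := tv (Units.map (th K m).toMonoidHom p.1) (Units.map (th K m).toMonoidHom p.2) p.2 p.1
    with hc
  have htor : (tor m p : GL chevF4.Idx K) = torusHom c := rfl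
  have hchi : ∀ r : ℕ, chiU c r = ∏ j : Fin 4, c j ^ chevF4.cartan j r := fun r => rfl
  -- the first coordinate, from the top roots
  have h1 : p.1 = 1 := by
    let z : GL chevF4.Idx K := X 44 1 * X 47 1
    have hz : z ∈ reeF4Rad K m a := by
      refine ⟨?_, (mem_fx m).2 ?_⟩
      · rw [reeF4_radical_eq]
        obtain ⟨p44, w44⟩ := hpos ⟨44, by decide⟩ (Or.inl rfl)
        obtain ⟨p47, w47⟩ := hpos ⟨47, by decide⟩ (Or.inr rfl)
        exact mul_mem (subset_closure ⟨⟨44, by decide⟩, 1, p44, w44 a, rfl⟩)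
          (subset_closure ⟨⟨47, by decide⟩, 1, p47, w47 a, rfl⟩)
      · have h := (isImg_X (m := m) (r := 44) (by omega) (1 : K) h44).mul
          (isImg_X (m := m) (r := 47) (by omega) (1 : K) h47)
        rw [map_one, one_pow, one_pow,
          ← (top_commute (r := 47) (by simp) (1 : K) (mem_posUnipotent_of facts_chevF4
            (r := 44) (by decide) (hpos ⟨44, by decide⟩ (Or.inl rfl)).1 (1 : K))).eq] at h
        exact h
    have e := hcen z hz
    have hvz : Commute v z :=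
      (top_commute (r := 44) (by simp) (1 : K) hv.1).mul_right
        (top_commute (r := 47) (by simp) (1 : K) hv.1)
    have e2 : torusHom c * z * (torusHom c)⁻¹ = z := by
      rw [htor] at e
      calc torusHom c * z * (torusHom c)⁻¹
          = v⁻¹ * (v * torusHom c * z * (v * torusHom c)⁻¹) * v := by group
        _ = v⁻¹ * z * v := by rw [e]
        _ = z := by rw [mul_assoc, ← hvz.eq, inv_mul_cancel_left]
    rw [show z = X 44 1 * X 47 1 from rfl, ← mul_assoc,
      torusHom_conj facts_chevF4 c (r := 44) (by decide), mul_assoc _ (torusHom c),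
      torusHom_conj facts_chevF4 c (r := 47) (by decide), ← mul_assoc, mul_inv_cancel_right,
      mul_one, mul_one] at e2
    have e3 : X 44 ((chiU c 44 : K) - 1) = X 47 (1 - (chiU c 47 : K)) := by
      have h := congrArg (fun x => X 44 (-1 : K) * x * X 47 (-(chiU c 47 : K))) e2
      simpa [← mul_assoc, xG_mul, mul_assoc (X 44 _) (X 47 _), add_comm, sub_eq_add_neg,
        xG_zero] using h
    have e4 : (chiU c 44 : K) = 1 := by
      by_contra h
      have e' : chevF4.x K 44 ((chiU c 44 : K) - 1) = chevF4.x K 47 (1 - (chiU c 47 : K)) :=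
        congrArg Units.val e3
      exact absurd (eq_of_x_eq facts_chevF4 (r := 44) (by decide) (sub_ne_zero.2 h) e').1
        (by decide)
    have e5 : Units.map (th K m).toMonoidHom p.1 = 1 := by
      have := (hchi 44).symm.trans (Units.ext e4 : chiU c 44 = 1)
      rw [Fin.prod_univ_four, c44.1, c44.2.1, c44.2.2.1, c44.2.2.2] at this
      simpa [hc, tv] using this
    exact Units.map_injective (f := (th K m).toMonoidHom) (th K m).injective
      (e5.trans (map_one _).symm)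
  -- the second coordinate, from the piece of the other orbit
  have h2 : p.2 = 1 := by
    have hfix : ∀ Y ∈ fm K m (wA (a + 1)),
        (∀ Z ∈ uMinus facts_chevF4 (wA (a + 1)) (F := K),
          Commute Z (tor m p * Y * (tor m p)⁻¹)) →
        tor m p * Y * (tor m p)⁻¹ = Y := fun Y hY hcomm => by
      have e := hcen Y (fm_le_reeF4Rad a hY)
      obtain ⟨v₂, hv₂, w, hw, hvw⟩ := posUnipotent_split facts_chevF4 (wA (a + 1)) hv.1
      set Y1 := tor m p * Y * (tor m p)⁻¹ with hY1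
      have hY1m : Y1 ∈ uMinus facts_chevF4 (wA (a + 1)) (F := K) :=
        (torus_conj_fm hm ⟨p, rfl⟩ hY).1
      have e2 : v₂ * Y1 * v₂⁻¹ = Y := by
        rw [← e, hvw, hY1]
        calc v₂ * Y1 * v₂⁻¹ = v₂ * (Y1 * w * w⁻¹) * v₂⁻¹ := by group
          _ = v₂ * (w * Y1 * w⁻¹) * v₂⁻¹ := by rw [← (hcomm w hw).eq]
          _ = _ := by rw [hY1]; group
      have h3 : v₂ * (Y1 * v₂⁻¹ * Y1⁻¹) ∈ uPlus facts_chevF4 (wA (a + 1)) (F := K) := by
        refine mul_mem hv₂ ?_
        rw [← reeF4_radical_eq] at hv₂ ⊢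
        refine (mem_normalizer_iff.1 (parabolic_le_normalizer facts_chevF4 (jA (a + 1))
          (borel_le_parabolic _ (uMinus_le_borel facts_chevF4 _ hY1m))) _).1 (inv_mem hv₂)
      rw [← mul_assoc, ← mul_assoc, e2] at h3
      exact (mul_inv_eq_one.1 (uPlus_inf_uMinus facts_chevF4 (isMon_sO (a + 1)) h3
        (mul_mem hY.1 (inv_mem hY1m)))).symm
    obtain rfl | rfl : a = 0 ∨ a = 1 := by omega
    · -- the piece of type B₂
      have hY := yB_mem_fm hm (0 : K) 1
      have hform : ∀ C : Fin chevF4.rank → Kˣ, ∃ e f : K,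
          torusHom C * yB m 0 1 * (torusHom C)⁻¹ = W4 0 0 e f := fun C => by
        simp only [yB, torus_conj_W4, map_zero, mul_zero, zero_add]
        exact ⟨_, _, rfl⟩
      have e := hfix _ hY fun Z hZ => by
        obtain ⟨a', b', c', d', rfl⟩ := exists_W4 (fun x hx => by
          obtain ⟨r, s, h1, h2, rfl⟩ := hx
          exact ⟨_, s, (wA_inverted 1 r h1).1.1 h2, rfl⟩) hZ
        obtain ⟨ee, f, ef⟩ := hform c
        rw [htor, ef]
        show _ * _ = _ * _
        rw [W4_mul, W4_mul]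
        simp [add_comm]
      rw [htor, yB, torus_conj_W4] at e
      obtain ⟨-, -, e28, -⟩ := W4_injective e
      have e5 : chiU c 28 = 1 := Units.ext (by simpa using e28)
      rw [hchi, Fin.prod_univ_four, c28.1, c28.2.1, c28.2.2.1, c28.2.2.2] at e5
      simpa [hc, tv, h1] using e5
    · -- the commutative piece
      have hY := yA_mem_fm hm (1 : K)
      have hconj : ∀ x y : K, torusHom c * W2 x y * (torusHom c)⁻¹ =
          W2 ((chiU c 33 : K) * x) ((chiU c 24 : K) * y) := fun x y => by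
        rw [W2, W2, ← mul_assoc, torusHom_conj facts_chevF4 c (r := 33) (by decide),
          mul_assoc _ (torusHom c), torusHom_conj facts_chevF4 c (r := 24) (by decide),
          ← mul_assoc, mul_inv_cancel_right]
      have e := hfix _ hY fun Z hZ => by
        obtain ⟨a', b', rfl⟩ := exists_W2 (fun x hx => by
          obtain ⟨r, s, h1, h2, rfl⟩ := hx
          exact ⟨_, s, (wA_inverted 0 r h1).1.1 h2, rfl⟩) hZ
        rw [htor, yA, hconj]
        show _ * _ = _ * _
        rw [W2_mul, W2_mul]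
        simp [add_comm]
      rw [htor, yA, hconj] at e
      obtain ⟨-, e24⟩ := W2_injective e
      have e5 : chiU c 24 = 1 := Units.ext (by simpa using e24)
      rw [hchi, Fin.prod_univ_four, c24.1, c24.2.1, c24.2.2.1, c24.2.2.2] at e5
      simpa [hc, tv, h1] using e5
  rw [show p = 1 from Prod.ext h1 h2, map_one, mul_one]
  exact hv

theorem rad_reeF4 [Fact (Nat.Prime 2)] : Rad 2 ↥(twistedF4 K (2 ^ m)) := by
  have hm := isTheta hK
  refine rad_subgroup fun U hUG hU hne => ?_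
  obtain ⟨P, hP⟩ := ReeF4.exists_sylow hK
  obtain ⟨S, hS⟩ := (hU.comap_subtype (K := twistedF4 K (2 ^ m))).exists_le_sylow
  obtain ⟨f, hf⟩ := MulAction.exists_smul_eq ↥(twistedF4 K (2 ^ m)) P S
  -- the conjugate inside the standard Sylow subgroup
  set Q := U.map (MulAut.conj (f : GL chevF4.Idx K)⁻¹).toMonoidHom with hQ
  have hQU : Q ≤ U1 K m := by
    rintro _ ⟨x, hx, rfl⟩
    have hxS : (⟨x, hUG hx⟩ : ↥(twistedF4 K (2 ^ m))) ∈
        ((f • P : Sylow 2 _) : Subgroup ↥(twistedF4 K (2 ^ m))) := hf.symm ▸ hS hx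
    rw [Sylow.coe_subgroup_smul, Subgroup.mem_pointwise_smul_iff_inv_smul_mem, hP,
      mem_subgroupOf] at hxS
    simpa [MulAut.smul_def, MulAut.conj_apply] using hxS
  have hQne : Q ≠ ⊥ := by rwa [hQ, Ne, map_eq_bot_iff_of_injective _ (MulEquiv.injective _)]
  obtain ⟨g, hg, a, hN⟩ := ReeF4.borel_tits hK hQU hQne
  have hG : twistedF4 K (2 ^ m) = fx m := (fx_eq hK).symm
  set d := (f : GL chevF4.Idx K) * g with hd
  have hdG : d ∈ twistedF4 K (2 ^ m) := mul_mem f.2 (hG ▸ hg)
  have hU1 : IsPGroup 2 ↥(U1 K m) := fun x => by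
    obtain ⟨j, hj⟩ := U1_two hK x.2
    exact ⟨j, Subtype.ext hj⟩
  have hR : reeF4Rad K m a ≤ U1 K m :=
    inf_le_inf_right _ (radical_le_posUnipotent (jA a))
  refine ⟨(reeF4Rad K m a).map (MulAut.conj d).toMonoidHom, ?_, (hU1.to_le hR).map _,
    fun x hx => ?_, (U1 K m).map (MulAut.conj d).toMonoidHom, hU1.map _, fun x hx hcen => ?_⟩
  · rintro _ ⟨y, hy, rfl⟩
    exact mul_mem (mul_mem hdG (U1_le_G1 (hR hy))) (inv_mem hdG)
  · have hxQ : (f : GL chevF4.Idx K)⁻¹ * x * f ∈ normalizer (Q : Set (GL chevF4.Idx K)) := by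
      have := le_normalizer_map (MulAut.conj (f : GL chevF4.Idx K)⁻¹).toMonoidHom
        (mem_map_of_mem _ hx.1)
      simpa [hQ, MulAut.conj_apply] using this
    have h1 := hN _ (hG ▸ mul_mem (mul_mem (inv_mem f.2) hx.2) f.2) hxQ
    rw [show g⁻¹ * ((f : GL chevF4.Idx K)⁻¹ * x * f) * g = d⁻¹ * x * d by rw [hd]; group] at h1
    exact mem_normalizer_conj_map (mem_normalizer_of_conj_mem fun y hy =>
      parabolic_fx_normalizes h1.1 h1.2 hy)
  · rw [mem_map_equiv, MulAut.conj_symm_apply]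
    refine reeF4_centralizer hK (a := a) (hG ▸ mul_mem (mul_mem (inv_mem hdG) hx) hdG) fun y hy => ?_
    have h := hcen _ ⟨y, hy, rfl⟩
    simp only [MulEquiv.coe_toMonoidHom, MulAut.conj_apply] at h
    calc d⁻¹ * x * d * y * (d⁻¹ * x * d)⁻¹ = d⁻¹ * (x * (d * y * d⁻¹) * x⁻¹) * d := by group
      _ = y := by rw [h]; group

omit hK in
theorem rad_iso2F4 {G : Type*} [Group G] [Fact (Nat.Prime 2)] (h : Iso2F4 G) : Rad 2 G := by
  obtain ⟨K, _, _, m, -, hK, ⟨e⟩⟩ := h
  have := ReeF4.charP_two hK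
  exact rad_of_mulEquiv e.symm (rad_reeF4 hK)

end Cfsg.Agent.RadProp
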