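import Cfsg.Agent.Chev.RadicalCentralizer
import Cfsg.Agent.Chev.MinCoset
import Cfsg.Agent.Chev.SteinbergCells
import Cfsg.Agent.Chev.Twist.Group
import Cfsg.Agent.Overgroup.Twisted.Orbit

/-!
The rational points of the unipotent radical of a stable proper parabolic subgroup have centralizer
inside the Sylow subgroup.
-/

set_option autoImplicit false

namespace Cfsg.Agent.RadProp

open Cfsg.Lie Cfsg.Agent.Chev Cfsg.Agent.Overgroup.Twisted
open scoped MatrixGroups

universe u

variable {D : ChevalleyDatum} {C : Cert}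

theorem cartan_pWord_refl (hF : Facts.{u} D) (w : List (Fin D.rank)) (i : Fin D.rank)
    (r : Fin D.nroots) : ∀ j : Fin D.rank, D.cartan j (pWord hF w (wPerm hF i r) : ℕ) =
      D.cartan j (pWord hF w r : ℕ) -
        D.cartan i r * D.cartan j (pWord hF w (sRoot hF i) : ℕ) := by
  induction w with
  | nil =>
    intro j
    show D.cartan j (wPerm hF i r : ℕ) = _
    rw [wPerm_val, hF.cartan_refl i i.2 r r.2 j j.2]
    rfl
  | cons l w ih =>
    intro j
    rw [pWord_cons, Equiv.Perm.mul_apply, Equiv.Perm.mul_apply, Equiv.Perm.mul_apply, wPerm_val,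
      wPerm_val, wPerm_val, hF.cartan_refl l l.2 _ (Fin.is_lt _) j j.2,
      hF.cartan_refl l l.2 _ (Fin.is_lt _) j j.2, hF.cartan_refl l l.2 _ (Fin.is_lt _) j j.2,
      ih j, ih l]
    ring

/-- A Weyl element preserving the grade of every root involving a node is trivial. -/
theorem weyl_eq_one_of_grade (h : Checks D C) (hF : Facts.{u} D) (hc : chkLinked D C = true)
    {mu : List (List ℤ)} {B : ℕ} (hg : GradeFacts D mu B) {π : Equiv.Perm (Fin D.nroots)}
    (hπ : π ∈ weyl hF) {k : Fin D.rank}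
    (hfix : ∀ r : Fin D.nroots, half D ≤ (r : ℕ) → coef D r k ≠ 0 →
      gradeR D mu (π r : ℕ) = gradeR D mu r) : π = 1 := by
  simp only [chkLinked, allBelow_iff, Bool.or_eq_true, Bool.and_eq_true, List.any_eq_true,
    List.mem_range, nble_iff, nbeq_iff, Bool.not_eq_true', nbeq_false_iff] at hc
  obtain ⟨w, rfl⟩ := exists_pWord hF hπ
  refine eq_one_of_pos hF hπ fun i => ?_
  suffices hgr : gradeR D mu (pWord hF w (sRoot hF i) : ℕ) = gradeR D mu (sRoot hF i : ℕ) by
    by_contra hneg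
    have h1 := hg.pos (negF hF (pWord hF w (sRoot hF i))) ((pos_negF_iff hF _).2 (not_le.1 hneg))
    have h2 := hg.pos (sRoot hF i) (simple_split h i.2).2.1
    rw [show ((negF hF (pWord hF w (sRoot hF i)) : Fin D.nroots) : ℕ) =
      D.neg (pWord hF w (sRoot hF i) : ℕ) from rfl, gradeR_neg hF (Fin.is_lt _), hgr] at h1
    omega
  by_cases hik : i = k
  · subst hik
    refine hfix _ (simple_split h i.2).2.1 ?_
    show coef D (D.simple i) i ≠ 0
    rw [hF.coef_simple i i.2 i i.2, if_pos rfl]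
    exact one_ne_zero
  rcases hc i i.2 k k.2 with e | ⟨⟨r, hr, ⟨⟨hp, hrs⟩, hrk⟩, hri⟩, -⟩
  · exact absurd (Fin.ext e) hik
  set r₀ : Fin D.nroots := ⟨r, hr⟩ with hr₀
  set r₁ := wPerm hF i r₀ with hr₁
  have hne0 : coef D r₀ k ≠ 0 := fun e => by
    have h' : C.cR r k = 0 := (coef_eq h k.2 hr).symm.trans e
    rw [h'] at hrk
    exact absurd hrk (by decide)
  have hne1 : coef D r₁ k ≠ 0 := by
    rw [hr₁, wPerm_val, hF.coef_refl i i.2 r hr k k.2,
      if_neg fun e => hik (Fin.ext e).symm, sub_zero]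
    exact hne0
  have hp1 : half D ≤ (r₁ : ℕ) := by
    rw [hr₁, wPerm_val]; exact hF.refl_pos i i.2 r hr hp hrs
  have hr10 : r₁ ≠ r₀ := fun e => by
    have e' : D.reflectRoot i r = r := congrArg Fin.val e
    rw [show C.cW i r = r from (refl_split h i.2 hr).1.symm.trans e'] at hri
    exact absurd hri (by rw [zbeq_iff.2 rfl]; decide)
  have hlin : ∀ w : List (Fin D.rank), gradeR D mu (pWord hF w r₁ : ℕ) =
      gradeR D mu (pWord hF w r₀ : ℕ) -
        D.cartan i r * gradeR D mu (pWord hF w (sRoot hF i) : ℕ) := fun w => by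
    simp only [gradeR, Finset.mul_sum, ← Finset.sum_sub_distrib]
    refine Finset.sum_congr rfl fun a _ => Finset.sum_congr rfl fun j _ => ?_
    rw [hr₁, cartan_pWord_refl hF w i r₀ j]
    ring
  have hz : D.cartan i r ≠ 0 := fun hz => hr10 (Fin.ext (by
    rw [hr₁, wPerm_val]
    show D.reflectRoot i r = r
    simp only [ChevalleyDatum.reflectRoot, hz, lt_self_iff_false, if_false, if_neg hrs]
    refine if_neg fun e => ?_
    have h1 := neg_lt_half_iff hF (simple_split h i.2).1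
    have := h1.2 (simple_split h i.2).2.1
    omega))
  have h1 := hlin w
  have h0 := hlin []
  rw [hfix r₁ hp1 hne1, hfix r₀ hp hne0] at h1
  simp only [show pWord hF ([] : List (Fin D.rank)) = 1 from rfl, Equiv.Perm.one_apply] at h0
  exact mul_left_cancel₀ hz (by linarith)

variable {F : Type u} [Field F] (T : Twist D F)

/-- An element of the twisted group centralizing the rational radical lies in the Sylow subgroup. -/
theorem twist_centralizer (h : Checks D C) (hc : chkLinked D C = true) {mu : List (List ℤ)} {B : ℕ}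
    (hg : GradeFacts D mu B) (R : RootFacts D mu T.ρ T.ε T.k) {J : Set ℕ}
    (hJ : ∀ i : Fin D.rank, (T.π i : ℕ) ∈ J ↔ (i : ℕ) ∈ J) {k : Fin D.rank} (hk : (k : ℕ) ∉ J)
    {g : GL D.Idx F} (hgG : g ∈ T.G1)
    (hcen : ∀ y ∈ D.unipotentRadical F J, y ∈ T.fx → g * y * g⁻¹ = y) : g ∈ T.U1 := by
  have hF := T.hF
  -- the rational products over the radical orbits
  have hstab : ∀ (r : Fin D.nroots) (j : ℕ), ¬ D.InRootSub J r →
      ¬ D.InRootSub J (T.ρ^[j] r : Fin D.nroots) := by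
    intro r j hr
    induction j with
    | zero => exact hr
    | succ j ih =>
      rw [Function.iterate_succ_apply']
      intro hin
      refine ih ⟨Fin.is_lt _, fun i hi hiJ => ?_⟩
      have h1 := hin.2 (T.π ⟨i, hi⟩) (Fin.is_lt _) fun hh => hiJ ((hJ ⟨i, hi⟩).1 hh)
      exact (T.hG.coef ⟨i, hi⟩ _).symm.trans h1
  have hY : ∀ r : Fin D.nroots, half D ≤ (r : ℕ) → ¬ D.InRootSub J r →
      Y T r (1 : F) ∈ D.unipotentRadical F J ∧ Y T r (1 : F) ∈ T.fx := fun r hr hin => by
    refine ⟨Subgroup.list_prod_mem _ fun x hx => ?_, Y_fx T R hr (map_one _)⟩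
    obtain ⟨j, -, rfl⟩ := List.mem_map.1 hx
    exact Subgroup.subset_closure ⟨_, _, (hF.posRoot_iff _ (Fin.is_lt _)).2
      ((pos_iterate T r j).2 hr), hstab r j hin, rfl⟩
  have hout : ∀ r : Fin D.nroots, coef D r k ≠ 0 → ¬ D.InRootSub J r :=
    fun r hne hin => hne (hin.2 k k.2 hk)
  have htor : ∀ {c : Fin D.rank → Fˣ}, c ∈ T.cfix → ∀ r : Fin D.nroots,
      torusHom c * Y T r 1 * (torusHom c)⁻¹ = Y T r ((chiU c (r : ℕ) : F) * 1) := fun {c} hc r =>
    conj_Y T R (T.T1_le_fx ⟨c, hc, rfl⟩) (r := r) rfl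
      (fun t => by rw [torusHom_conj hF c r.2, mul_inv_cancel_right]) 1
  obtain ⟨bb, hb, ws, x, hx, rfl⟩ := T.exists_nf hgG
  set n := T.nW ws with hn
  set π := T.pW ws with hπ
  have hxB : x ∈ T.B1 := Subgroup.mem_sup_left ⟨closure_uGens_le hF _ hx.1, hx.2⟩
  obtain ⟨v, hv, hh, hhT, hvc⟩ := T.mem_B1.1 (mul_mem hxB hb)
  obtain ⟨c, hcfix, rfl⟩ := T.mem_T1.1 hhT
  have hnfx : n ∈ T.fx := T.G1_le_fx (T.N1_le_G1 (T.nW_mem_N1 ws))
  have hmon : IsMon hF n π := T.isMon_nW ws
  have hmoninv := isMon_inv hF (T.N1_le_monomial (T.nW_mem_N1 ws)) hmon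
  have hbP : ∀ y ∈ D.unipotentRadical F J, bb * y * bb⁻¹ ∈ D.unipotentRadical F J := fun y hy =>
    (Subgroup.mem_normalizer_iff.1
      (parabolic_le_normalizer hF J (borel_le_parabolic J (T.B1_le_borel hb))) y).1 hy
  have hbfx := T.G1_le_fx (T.B1_le_G1 hb)
  have hgrade : ∀ r : Fin D.nroots, half D ≤ (r : ℕ) → coef D r k ≠ 0 →
      gradeR D mu (π⁻¹ r : Fin D.nroots) = gradeR D mu r := by
    intro r hr hrk
    obtain ⟨hYJ, hYfx⟩ := hY r hr (hout r hrk)
    have e1 : n * ((x * bb) * Y T r 1 * (x * bb)⁻¹) * n⁻¹ = Y T r 1 := by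
      have := hcen _ (hbP _ hYJ) (mul_mem (mul_mem hbfx hYfx) (inv_mem hbfx))
      calc n * ((x * bb) * Y T r 1 * (x * bb)⁻¹) * n⁻¹
          = bb⁻¹ * ((bb * n * x) * (bb * Y T r 1 * bb⁻¹) * (bb * n * x)⁻¹) * bb := by group
        _ = Y T r 1 := by rw [this]; group
    set s := π⁻¹ r with hs
    have holen : olen T.ρ T.k s = olen T.ρ T.k r := by
      have hcm : T.ρ s = π⁻¹ (T.ρ r) := by
        rw [hs, ← Equiv.Perm.mul_apply, ((T.inW1_pW ws).2.inv_right).eq, Equiv.Perm.mul_apply]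
      simp only [olen, hcm]
      simp only [hs, EmbeddingLike.apply_eq_iff_eq]
    obtain ⟨d, hd0, hd⟩ := hmoninv r
    have hL : n⁻¹ * Y T r 1 * n = Y T s d := by
      have h2 := conj_Y T R (inv_mem hnfx) holen
        (fun t => by rw [hd t, mul_inv_cancel_right]) (1 : F)
      rwa [inv_inv, mul_one] at h2
    have e3 : v * Y T r ((chiU c (r : ℕ) : F) * 1) * v⁻¹ = Y T s d := by
      rw [← htor hcfix, ← hL]
      calc v * (torusHom c * Y T r 1 * (torusHom c)⁻¹) * v⁻¹
          = v * torusHom c * Y T r 1 * (v * torusHom c)⁻¹ := by group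
        _ = x * bb * Y T r 1 * (x * bb)⁻¹ := by rw [hvc]
        _ = n⁻¹ * (n * ((x * bb) * Y T r 1 * (x * bb)⁻¹) * n⁻¹) * n := by group
        _ = _ := by rw [e1]
    have hps : half D ≤ (s : ℕ) := by
      by_contra hneg
      have hU : Y T s d ∈ D.posUnipotent F := by
        rw [← e3]
        exact mul_mem (mul_mem hv.1 (Y_mem_posUnipotent T hr _)) (inv_mem hv.1)
      have hneg' : Y T s d ∈ D.negUnipotent F := Subgroup.list_prod_mem _ fun y hy => by
        obtain ⟨j, -, rfl⟩ := List.mem_map.1 hy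
        exact mem_negUnipotent_of hF (Fin.is_lt _)
          (not_le.1 fun h' => hneg ((pos_iterate T s j).1 h')) _
      have h1 := borel_inf_upper hF (Subgroup.mem_sup_left hU)
        (negUnipotent_le_upperGroup hF hneg')
      rw [h1, conj_eq_one_iff] at e3
      have h2 := co_Y_self T R hg h hr ((chiU c (r : ℕ) : F) * 1)
      rw [e3, co_one, mul_one] at h2
      exact Units.ne_zero _ h2.symm
    obtain ⟨hLm, hLc⟩ := co_conj hF hg hr (posUnipotent_le_LV hF hg h hv.1)
      (Y_mem_LV T R hg h hr ((chiU c (r : ℕ) : F) * 1))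
    rw [e3] at hLm hLc
    rw [co_Y_self T R hg h hr, mul_one] at hLc
    rcases lt_trichotomy (lv D mu s) (lv D mu r) with hlt | heq | hgt
    · have h1 := co_of_higher hF hg hps (LV_anti (show lv D mu s + 1 ≤ lv D mu r by omega) hLm)
      rw [co_Y_self T R hg h hps] at h1
      exact absurd h1 hd0
    · rw [← lv_cast hF hg hps, ← lv_cast hF hg hr, heq]
    · have h1 := co_of_higher hF hg hr
        (LV_anti (show lv D mu r + 1 ≤ lv D mu s by omega) (Y_mem_LV T R hg h hps d))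
      rw [hLc] at h1
      exact absurd h1 (Units.ne_zero _)
  have hπ1 : π = 1 := inv_eq_one.1
    (weyl_eq_one_of_grade h hF hc hg (Subgroup.inv_mem _ (T.inW1_pW ws).1) hgrade)
  obtain ⟨v', hv', hh', hhT', e⟩ := T.mem_B1.1 (mul_mem (mul_mem hb
    (Subgroup.mem_sup_right (T.nW_mem_T1 ws hπ1))) hxB)
  obtain ⟨c', hcfix', rfl⟩ := T.mem_T1.1 hhT'
  have hc1 : (torusHom c' : GL D.Idx F) = 1 := by
    refine torus_eq_one_of_fix h hF J hc (k := k) hk fun r hr hin => Units.ext ?_
    obtain ⟨hYJ, hYfx⟩ := hY r hr hin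
    have h1 := hcen _ hYJ hYfx
    rw [← e, show v' * torusHom c' * Y T r 1 * (v' * torusHom c')⁻¹ =
      v' * (torusHom c' * Y T r 1 * (torusHom c')⁻¹) * v'⁻¹ by group, htor hcfix'] at h1
    have h2 := (co_conj hF hg hr (posUnipotent_le_LV hF hg h hv'.1)
      (Y_mem_LV T R hg h hr ((chiU c' (r : ℕ) : F) * 1))).2
    rw [h1, co_Y_self T R hg h hr, co_Y_self T R hg h hr, mul_one] at h2
    exact h2.symm
  rw [← e, hc1, mul_one]
  exact hv'

end Cfsg.Agent.RadProp
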