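import Cfsg.Agent.BorelTits.Main
import Cfsg.Agent.Chev.MinCoset
import Cfsg.Agent.Chev.Twist.Group
import Cfsg.Agent.Chev.UnipotentCount

/-!
Borel–Tits for the twisted groups: an optimal coset of a parabolic subgroup is rational.
-/

set_option autoImplicit false

namespace Cfsg.Agent.RadProp

open Cfsg.Lie Cfsg.Agent.Chev
open scoped MatrixGroups

universe u

variable {D : ChevalleyDatum} {F : Type u} [Field F]

theorem parabolic_le_group (hF : Facts.{u} D) (J : Set ℕ) :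
    D.parabolicSubgroup F J ≤ D.group F :=
  sup_le (borel_le_group hF) ((Subgroup.closure_le _).2 fun y ⟨j, _, hj, ey⟩ => by
    rw [show y = nG hF (D.simple j) 1 from Units.ext (ey.trans (nG_val hF _ 1).symm)]
    exact nG_mem_group hF _ _)

theorem posU_le_parabolic (J : Set ℕ) : D.posUnipotent F ≤ D.parabolicSubgroup F J :=
  fun _ h => borel_le_parabolic J (Subgroup.mem_sup_left h)

/-- Minimal representatives of the cosets of a parabolic subgroup are unique. -/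
theorem coset_unique (hF : Facts.{u} D) {J : Set ℕ} {n n' z : GL D.Idx F}
    {π π' : Equiv.Perm (Fin D.nroots)} (hn : n ∈ D.monomialSubgroup F)
    (hn' : n' ∈ D.monomialSubgroup F) (hπ : IsMon hF n π) (hπ' : IsMon hF n' π')
    (hm : IsMin hF (idxSet D J) π⁻¹) (hm' : IsMin hF (idxSet D J) π'⁻¹)
    (hz : z ∈ D.posUnipotent F) (h : n' * z * n⁻¹ ∈ D.parabolicSubgroup F J) :
    π' = π ∧ (n' = n → z ∈ uMinus hF π → z = 1) := by
  obtain ⟨b, hb, w, y, hy, eq⟩ := exists_normalForm hF (parabolic_le_group hF J h)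
  have hyU := uMinus_le_posUnipotent hF _ hy
  have hwJ : pWord hF w ∈ wJ hF (idxSet D J) := by
    refine pWord_mem_of_nWord_mem hF J (F := F) ?_
    rw [show (nWord hF w : GL D.Idx F) = b⁻¹ * (n' * z * n⁻¹) * y⁻¹ by rw [eq]; group]
    exact mul_mem (mul_mem (inv_mem (borel_le_parabolic J hb)) h)
      (inv_mem (posU_le_parabolic J hyU))
  have hni := isMon_inv hF hn hπ
  have hy' : n⁻¹ * y * n ∈ D.posUnipotent F := by
    have := conj_uGens_le hF hni (M := D.posUnipotent F) (fun r h1 h2 v =>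
      mem_posUnipotent_of hF (π⁻¹ r).2 (pos_of_isMin hF hm
        (fun j hj => coef_eq_zero_of_inverted hF hwJ h1 h2 hj) h1) v) hy
    rwa [inv_inv] at this
  set M := nWord hF w * n with hM
  have hMon := isMon_mul hF (isMon_nWord hF w (F := F)) hπ
  rw [← hM] at hMon
  obtain ⟨a, ha, c, hc, hac⟩ := posUnipotent_split hF (pWord hF w * π) hy'
  obtain ⟨a', ha', c', hc', hac'⟩ := posUnipotent_split hF π' hz
  have hMN : M ∈ D.monomialSubgroup F := Subgroup.mul_mem _ (nWord_mem hF w) hn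
  have hd := (normalForm_unique hF (b := n' * a' * n'⁻¹) (b' := b * (M * a * M⁻¹)) (n := n')
    (n' := M) (x := c') (x' := c) (Subgroup.mem_sup_left (conj_uPlus hF hπ' ha'))
    (mul_mem hb (Subgroup.mem_sup_left (conj_uPlus hF hMon ha)))
    hn' hMN (by rw [monPerm_eq hF hπ']; exact hc') (by rw [monPerm_eq hF hMon]; exact hc) (by
      rw [show n' * a' * n'⁻¹ * n' * c' = n' * z * n⁻¹ * n by rw [hac']; group, eq,
        show b * nWord hF w * y * n = b * M * (n⁻¹ * y * n) by rw [hM]; group, hac]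
      group)).1
  obtain ⟨t, ht⟩ := (mem_diagonal_iff hF).1 hd
  have hperm : pWord hF w * π = π' := by
    have h1 := isMon_mul hF hπ' (isMon_torus hF t (F := F))
    rw [mul_one, ht, mul_inv_cancel_left] at h1
    exact isMon_unique hF hMon h1
  have he : π' = π := by
    refine (inv_injective (isMin_unique hF hm hm' ?_)).symm
    rw [inv_inv, ← hperm, mul_inv_rev, mul_inv_cancel_left]
    exact Subgroup.inv_mem _ hwJ
  refine ⟨he, ?_⟩
  rintro rfl hzm
  rw [he] at hperm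
  have hw1 : pWord hF w = 1 := mul_eq_right.1 hperm
  have hB : n' * z * n'⁻¹ ∈ D.borelSubgroup F := by
    rw [eq]
    exact mul_mem (mul_mem hb (Subgroup.mem_sup_right (nWord_mem_diagonal hF w hw1)))
      (Subgroup.mem_sup_left hyU)
  exact conj_eq_one_iff.1
    (borel_inf_upper hF hB (negUnipotent_le_upperGroup hF (conj_uMinus hF hπ hzm)))

/-- The normal form modulo a parabolic subgroup. -/
theorem exists_min_left (hF : Facts.{u} D) (J : Set ℕ) {g : GL D.Idx F} (hg : g ∈ D.group F) :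
    ∃ p ∈ D.parabolicSubgroup F J, ∃ w : List (Fin D.rank),
      IsMin hF (idxSet D J) (pWord hF w)⁻¹ ∧
      ∃ x ∈ uMinus hF (pWord hF w), g = p * nWord hF w * x := by
  obtain ⟨b, hb, w, x, hx, rfl⟩ := exists_normalForm hF hg
  obtain ⟨u, hu, huv⟩ := exists_min hF (J := idxSet D J) _ rfl (Subgroup.inv_mem _ (pWord_mem hF w))
  obtain ⟨w₁, hw₁⟩ := exists_pWord hF (Subgroup.inv_mem _ hu.1)
  obtain ⟨w₂, hw₂J, hw₂⟩ := exists_pWord_J hF (Subgroup.inv_mem _ huv)
  have hperm : pWord hF w₂ * pWord hF w₁ = pWord hF w := by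
    rw [hw₂, hw₁, mul_inv_rev, inv_inv, mul_assoc, inv_mul_cancel, mul_one]
  set M : GL D.Idx F := nWord hF w₂ * nWord hF w₁ with hM
  have hMN : M ∈ D.monomialSubgroup F := Subgroup.mul_mem _ (nWord_mem hF _) (nWord_mem hF _)
  have hMon : IsMon hF M (pWord hF w) := hperm ▸ isMon_mul hF (isMon_nWord hF _) (isMon_nWord hF _)
  have hd : nWord hF w * M⁻¹ ∈ D.diagonalSubgroup F := by
    refine mem_diagonal_of_isMon_one hF
      (Subgroup.mul_mem _ (nWord_mem hF _) (Subgroup.inv_mem _ hMN)) ?_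
    have := isMon_mul hF (isMon_nWord hF w (F := F)) (isMon_inv hF hMN hMon)
    rwa [mul_inv_cancel] at this
  obtain ⟨a, ha, c, hc, rfl⟩ := posUnipotent_split hF (pWord hF w₁) (uMinus_le_posUnipotent hF _ hx)
  refine ⟨b * (nWord hF w * M⁻¹) * nWord hF w₂ * (nWord hF w₁ * a * (nWord hF w₁)⁻¹), ?_, w₁,
    by rwa [hw₁, inv_inv], c, hc, ?_⟩
  · refine mul_mem (mul_mem (borel_le_parabolic J (mul_mem hb (Subgroup.mem_sup_right hd))) ?_)
      (posU_le_parabolic J (conj_uPlus hF (isMon_nWord hF _) ha))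
    refine Subgroup.list_prod_mem _ fun y hy => ?_
    obtain ⟨i, hi, rfl⟩ := List.mem_map.1 hy
    exact nS_mem_parabolic hF J (hw₂J i hi)
  · rw [hM]; group

variable (T : Twist D F)

theorem σ_mem_group {g : GL D.Idx F} (hg : g ∈ D.group F) : T.σ g ∈ D.group F := by
  refine ((Subgroup.closure_le _).2 ?_ : D.group F ≤ (D.group F).comap T.σ) hg
  rintro x ⟨r, t, e⟩
  obtain ⟨e', -, he⟩ := T.σ_x r
  rw [show x = xG T.hF r t from Units.ext (e.trans (by rw [xG_val, ChevalleyDatum.x, dif_pos r.2]))]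
  show T.σ (xG T.hF r t) ∈ D.group F
  rw [he t]
  exact xG_mem_group T.hF _ _

theorem σ_parabolic {J : Set ℕ} (hJ : ∀ i : Fin D.rank, (T.π i : ℕ) ∈ J ↔ (i : ℕ) ∈ J)
    {g : GL D.Idx F} (hg : g ∈ D.parabolicSubgroup F J) :
    T.σ g ∈ D.parabolicSubgroup F J := by
  refine (sup_le ?_ ((Subgroup.closure_le _).2 ?_) :
    D.parabolicSubgroup F J ≤ (D.parabolicSubgroup F J).comap T.σ) hg
  · intro b hb
    obtain ⟨v, hv, c, rfl⟩ := (mem_borel_iff T.hF).1 hb
    show T.σ (v * torusHom c) ∈ D.parabolicSubgroup F J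
    rw [map_mul, T.σ_torusHom]
    exact mul_mem (posU_le_parabolic J (T.σ_posUnipotent hv))
      (borel_le_parabolic J (Subgroup.mem_sup_right (torusHom_mem T.hF _)))
  · rintro x ⟨j, hjJ, hj, e⟩
    rw [show x = nS T.hF ((⟨j, hj⟩ : Fin D.rank) : ℕ) from Units.ext (e.trans (nG_val T.hF _ 1).symm)]
    show T.σ (nS T.hF ((⟨j, hj⟩ : Fin D.rank) : ℕ)) ∈ D.parabolicSubgroup F J
    rw [T.σ_nS]
    exact nS_mem_parabolic T.hF J (mem_idxSet.2 ((hJ ⟨j, hj⟩).2 hjJ))

/-- A coset of a stable parabolic subgroup fixed by the twist meets the twisted group. -/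
theorem exists_rational {J : Set ℕ} (hJ : ∀ i : Fin D.rank, (T.π i : ℕ) ∈ J ↔ (i : ℕ) ∈ J)
    {g : GL D.Idx F} (hg : g ∈ D.group F) (h : g⁻¹ * T.σ g ∈ D.parabolicSubgroup F J) :
    ∃ f ∈ T.G1, f⁻¹ * g ∈ D.parabolicSubgroup F J := by
  obtain ⟨p, hp, w, hmin, x, hx, e⟩ := exists_min_left T.hF J (Subgroup.inv_mem _ hg)
  have hxU := uMinus_le_posUnipotent T.hF _ hx
  have hkey : ∀ (q : GL D.Idx F) (m : GL D.Idx F), q ∈ D.parabolicSubgroup F J →
      g⁻¹ = q * m * x → T.σ m * (T.σ x * x⁻¹) * m⁻¹ ∈ D.parabolicSubgroup F J := by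
    intro q m hq e'
    rw [show T.σ m * (T.σ x * x⁻¹) * m⁻¹ =
        (T.σ q)⁻¹ * (T.σ (q * m * x)) * (q * m * x)⁻¹ * q by rw [map_mul, map_mul]; group,
      ← e', map_inv, show (T.σ q)⁻¹ * (T.σ g)⁻¹ * g⁻¹⁻¹ * q =
        (T.σ q)⁻¹ * (g⁻¹ * T.σ g)⁻¹ * q by group]
    exact mul_mem (mul_mem (inv_mem (σ_parabolic T hJ hq)) (inv_mem h)) hq
  set π' := pWord T.hF (w.map T.π) with hπ'
  have hconj : π' = T.ρ * pWord T.hF w * T.ρ⁻¹ := by
    rw [T.rho_pWord, mul_inv_cancel_right]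
  have hmin' : IsMin T.hF (idxSet D J) π'⁻¹ := by
    refine ⟨Subgroup.inv_mem _ (pWord_mem T.hF _), fun j hj => ?_⟩
    have e1 : T.ρ⁻¹ (sRoot T.hF j) = sRoot T.hF (T.π.symm j) := by
      rw [Equiv.Perm.inv_eq_iff_eq, T.rho_sRoot, Equiv.apply_symm_apply]
    rw [hconj, mul_inv_rev, mul_inv_rev, inv_inv, Equiv.Perm.mul_apply, Equiv.Perm.mul_apply, e1,
      T.rho_pos]
    refine hmin.2 _ (mem_idxSet.2 ((hJ _).1 ?_))
    rw [Equiv.apply_symm_apply]
    exact mem_idxSet.1 hj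
  have hz : T.σ x * x⁻¹ ∈ D.posUnipotent F := mul_mem (T.σ_posUnipotent hxU) (inv_mem hxU)
  have hsame := (coset_unique T.hF (nWord_mem T.hF w) (nWord_mem T.hF _) (isMon_nWord T.hF w)
    (isMon_nWord T.hF _) hmin hmin' hz (by rw [← T.σ_nWord]; exact hkey p _ hp e)).1
  have hcomm : Commute T.ρ (pWord T.hF w) := by
    show T.ρ * pWord T.hF w = pWord T.hF w * T.ρ
    rw [T.rho_pWord, hsame]
  obtain ⟨ws, hws⟩ := T.exists_pW ⟨pWord_mem T.hF w, hcomm⟩
  set n₀ := T.nW ws with hn₀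
  have hnG : n₀ ∈ T.G1 := T.N1_le_G1 (T.nW_mem_N1 ws)
  have hnN : n₀ ∈ D.monomialSubgroup F := T.N1_le_monomial (T.nW_mem_N1 ws)
  have hmon : IsMon T.hF n₀ (pWord T.hF w) := hws ▸ T.isMon_nW ws
  have hd : nWord T.hF w * n₀⁻¹ ∈ D.diagonalSubgroup F := by
    refine mem_diagonal_of_isMon_one T.hF
      (Subgroup.mul_mem _ (nWord_mem T.hF _) (Subgroup.inv_mem _ hnN)) ?_
    have := isMon_mul T.hF (isMon_nWord T.hF w (F := F)) (isMon_inv T.hF hnN hmon)
    rwa [mul_inv_cancel] at this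
  set q := p * (nWord T.hF w * n₀⁻¹) with hq
  have e0 : g⁻¹ = q * n₀ * x := by rw [hq, e]; group
  have hqJ : q ∈ D.parabolicSubgroup F J :=
    mul_mem hp (borel_le_parabolic J (Subgroup.mem_sup_right hd))
  have hx1 : T.σ x * x⁻¹ = 1 :=
    (coset_unique T.hF hnN hnN hmon hmon hmin hmin hz (by
      have := hkey q n₀ hqJ e0
      rwa [T.mem_fx.1 (T.G1_le_fx hnG)] at this)).2 rfl
      (mul_mem (T.σ_uMinus hcomm hx) (inv_mem hx))
  have hxG : x ∈ T.G1 :=
    T.fm_le_G1 ⟨pWord_mem T.hF w, hcomm⟩ ⟨hx, T.mem_fx.2 (mul_inv_eq_one.1 hx1)⟩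
  refine ⟨(n₀ * x)⁻¹, inv_mem (mul_mem hnG hxG), ?_⟩
  rw [inv_inv, show n₀ * x * g = q⁻¹ * (q * n₀ * x) * g by group, ← e0,
    mul_assoc, inv_mul_cancel, mul_one]
  exact inv_mem hqJ

theorem σ_entry_ne {m : GL D.Idx F} {a b : D.Idx}
    (h : ((T.σ m : Matrix D.Idx D.Idx F) - 1) (Equiv.sumCongr T.π T.ρ a)
      (Equiv.sumCongr T.π T.ρ b) ≠ 0) : ((m : Matrix D.Idx D.Idx F) - 1) a b ≠ 0 := by
  intro h0
  refine h ?_
  have e := congrArg (fun x : GL D.Idx F => (x : Matrix D.Idx D.Idx F)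
    (Equiv.sumCongr T.π T.ρ a) b)
    (show (T.hG.mat : GL D.Idx F) * gmap D T.φ m = T.σ m * T.hG.mat by
      rw [T.σ_apply, T.hG.aut_eq, inv_mul_cancel_right])
  simp only [Units.val_mul, T.hG.mat_mul_apply, T.hG.mul_mat_apply, gmap_apply] at e
  have hw : ∀ c : D.Idx, (graphWeight T.ε c : F) ≠ 0 := by
    rintro (c | c)
    · simp [graphWeight]
    · rcases T.hG.sign c with e | e <;> simp [graphWeight, e]
  rw [Matrix.sub_apply, sub_eq_zero] at h0 ⊢
  rw [h0] at e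
  by_cases hab : a = b
  · subst hab
    rw [Matrix.one_apply_eq, map_one, mul_one] at e
    rw [Matrix.one_apply_eq]
    exact mul_right_cancel₀ (hw a) (by rw [← e, one_mul])
  · rw [Matrix.one_apply_ne hab, map_zero, mul_zero] at e
    rw [Matrix.one_apply_ne fun hh => hab ((Equiv.injective _) hh)]
    exact (mul_eq_zero.1 e.symm).resolve_right (hw b)

variable [Fintype F] (hD : D ∈ [chevG2, chevB2, chevD4, chevF4, chevE6, chevE7, chevE8])
include hD

/-- The normalizer of a nontrivial `p`-subgroup lies in a rational parabolic subgroup. -/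
theorem borel_tits_twist (p : ℕ) [Fact p.Prime] [CharP F p] {U : Subgroup (GL D.Idx F)}
    (hUG : U ≤ T.G1) (hU : IsPGroup p ↥U) (hne : U ≠ ⊥) :
    ∃ J : Set ℕ, (∀ i : Fin D.rank, (T.π i : ℕ) ∈ J ↔ (i : ℕ) ∈ J) ∧
      (∃ i : Fin D.rank, (i : ℕ) ∉ J) ∧ ∃ f ∈ T.G1,
        ∀ x ∈ T.G1, x ∈ Subgroup.normalizer (U : Set (GL D.Idx F)) →
          f⁻¹ * x * f ∈ D.parabolicSubgroup F J := by
  have hF := T.hF
  have hUD : U ≤ D.group F := hUG.trans T.G1_le_group
  obtain ⟨g, hg, d, hd, hdom, hmin⟩ := BorelTits.exists_optimal hF hD p hUD hU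
  set d' : Fin D.nroots → ℝ := d ∘ T.ρ.symm with hd'
  have hdI : ∀ a : D.Idx, BorelTits.dI D d' (Equiv.sumCongr T.π T.ρ a) = BorelTits.dI D d a := by
    rintro (a | a) <;> simp [BorelTits.dI, hd']
  have hd'S : d' ∈ BorelTits.degSpace D := by
    obtain ⟨μ, hμ⟩ := hd.1
    refine ⟨μ ∘ T.π.symm, funext fun r => ?_⟩
    rw [hd', Function.comp_apply, ← hμ, BorelTits.degMap_apply, BorelTits.degMap_apply]
    refine (Fintype.sum_equiv T.π _ _ fun i => ?_).symm
    have h := T.hG.cartan i (T.ρ.symm r)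
    rw [Equiv.apply_symm_apply] at h
    simp only [Function.comp_apply, Equiv.symm_apply_apply, h]
  have hopt : d' ∈ BorelTits.optSet U (T.σ g) := by
    refine ⟨hd'S, fun v hv => ?_⟩
    have hvσ : T.σ v = v := T.mem_fx.1 (T.G1_le_fx (hUG hv))
    rw [show (T.σ g)⁻¹ * v * T.σ g = T.σ (g⁻¹ * v * g) by rw [map_mul, map_mul, map_inv, hvσ]]
    intro a b hab
    obtain ⟨a, rfl⟩ := (Equiv.sumCongr T.π T.ρ).surjective a
    obtain ⟨b, rfl⟩ := (Equiv.sumCongr T.π T.ρ).surjective b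
    rw [hdI, hdI]
    exact hd.2 v hv a b (σ_entry_ne T hab)
  have hsimp : ∀ i, d' (sRoot hF i) = d (sRoot hF (T.π.symm i)) := fun i => by
    rw [hd', Function.comp_apply]
    congr 1
    rw [Equiv.symm_apply_eq, T.rho_sRoot, Equiv.apply_symm_apply]
  have hdom' : BorelTits.DomD D hF d' := fun i => by rw [hsimp]; exact hdom _
  have hn : BorelTits.nrm d' = BorelTits.nrm d := BorelTits.nrm_comp d T.ρ.symm
  have hσg := σ_mem_group T hg
  -- the degree function is invariant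
  have hmem := BorelTits.optimal_unique hF hD hg hσg hd hopt hdom hdom' hmin hn
  obtain ⟨b, hb, w, x, hx, e⟩ := exists_normalForm hF (Subgroup.mul_mem _ (Subgroup.inv_mem _ hg) hσg)
  have heq : d = d' := by
    have hx' := uMinus_le_borel hF _ hx
    have hborel : ∀ {d : Fin D.nroots → ℝ}, d ∈ BorelTits.degSpace D → BorelTits.DomD D hF d →
        D.borelSubgroup F ≤ BorelTits.sGroup d (fun x : ℝ => 0 ≤ x) := fun hd hdom =>
      le_trans (borel_le_parabolic ∅)
        (BorelTits.parabolic_le_sGroup hF hD hd hdom fun i hi => absurd hi (Set.notMem_empty _))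
    have k₁ : d ∈ BorelTits.optSet U (g * b) :=
      BorelTits.optSet_mul_mem hd (hborel hd.1 hdom hb)
    have k₂ : d' ∈ BorelTits.optSet U (g * b * nWord hF w) := by
      have := BorelTits.optSet_mul_mem hopt (Subgroup.inv_mem _ (hborel hd'S hdom' hx'))
      rwa [show T.σ g * x⁻¹ = g * b * nWord hF w by
        rw [show T.σ g = g * (g⁻¹ * T.σ g) by group, e]; group] at this
    have k₃ := BorelTits.optSet_mon hF w k₁
    have h1 : d ∘ pWord hF w = d' :=
      BorelTits.min_unique k₃ k₂ (by rw [BorelTits.nrm_comp, hn]) fun f hf => by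
        rw [BorelTits.nrm_comp]
        exact hmin _ (Subgroup.mul_mem _ (Subgroup.mul_mem _ hg (borel_le_group hF hb))
          (monomial_le_group hF (nWord_mem hF w))) f hf
    exact (BorelTits.dom_unique hF hd.1 hd'S hdom hdom' _ w rfl h1).2
  rw [← heq] at hmem
  set J : Set ℕ := ↑((BorelTits.zSet D hF d).map Fin.valEmbedding) with hJ
  have hJz : ∀ i : Fin D.rank, (i : ℕ) ∈ J ↔ d (sRoot hF i) = 0 := fun i => by
    rw [hJ, ← mem_idxSet, idxSet_map]
    simp [BorelTits.zSet]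
  have hJπ : ∀ i : Fin D.rank, (T.π i : ℕ) ∈ J ↔ (i : ℕ) ∈ J := fun i => by
    rw [hJz, hJz]
    conv_lhs => rw [heq, hsimp, Equiv.symm_apply_apply]
  obtain ⟨f, hf, hfg⟩ := exists_rational T hJπ hg hmem
  refine ⟨J, hJπ, ?_, f, hf, fun x hx hxN => ?_⟩
  · by_contra hall
    simp only [not_exists, not_not] at hall
    have hd0 := BorelTits.deg_eq_zero_of_all hF hd.1 fun i => by
      simp [BorelTits.zSet, (hJz i).1 (hall i)]
    refine hne (Subgroup.eq_bot_iff_forall U |>.2 fun v hv => ?_)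
    have h1 : g⁻¹ * v * g = 1 := by
      apply Units.ext
      ext a b
      by_contra hab
      have := hd.2 v hv a b (by rw [Matrix.sub_apply, sub_ne_zero]; exact hab)
      subst hd0
      rcases a with a | a <;> rcases b with b | b <;> simp [BorelTits.dI] at this <;> linarith
    exact conj_eq_one_iff.1 (by
      rw [show g⁻¹ * v * g⁻¹⁻¹ = g⁻¹ * v * g by group]; exact h1)
  · have h2 : d ∈ BorelTits.optSet U (x * g) := ⟨hd.1, fun v hv => by
      rw [show (x * g)⁻¹ * v * (x * g) = g⁻¹ * (x⁻¹ * v * x) * g by group]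
      exact hd.2 _ ((Subgroup.mem_normalizer_iff''.1 hxN v).1 hv)⟩
    have := BorelTits.optimal_unique hF hD hg (Subgroup.mul_mem _ (T.G1_le_group hx) hg) hd h2
      hdom hdom hmin rfl
    rw [show f⁻¹ * x * f = (f⁻¹ * g) * (g⁻¹ * (x * g)) * (f⁻¹ * g)⁻¹ by group]
    exact mul_mem (mul_mem hfg this) (inv_mem hfg)

end Cfsg.Agent.RadProp
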