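import Cfsg.Agent.RadProp.Chev
import Cfsg.Agent.RadProp.TwistCoset
import Cfsg.Agent.RadProp.TwistCent
import Cfsg.Agent.Overgroup.Twisted.E6Data
import Cfsg.Agent.Overgroup.Twisted.D4Data
import Cfsg.Agent.Chev.Twist.E6Stmts
import Cfsg.Agent.Chev.Twist.D4Stmts

/-!
The twisted groups ²E₆ and ³D₄: centralizers of radicals of local subgroups.
-/

set_option autoImplicit false

namespace Cfsg.Agent.RadProp

open Cfsg.Lie Cfsg.Agent.Chev Cfsg.Agent.Overgroup.Twisted Subgroup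
open scoped MatrixGroups

universe u

variable {D : ChevalleyDatum} {F : Type u} [Field F]

theorem rad_twist [Fintype F] {p : ℕ} [Fact p.Prime] [CharP F p] (T : Twist D F)
    (hD : D ∈ [chevG2, chevB2, chevD4, chevF4, chevE6, chevE7, chevE8]) {mu : List (List ℤ)}
    {B : ℕ} (hg : GradeFacts D mu B) (R : RootFacts D mu T.ρ T.ε T.k) : Rad p ↥T.G1 := by
  obtain ⟨C, hC, hc⟩ := S2155.exists_checks hD
  refine rad_subgroup fun U hUG hU hne => ?_
  obtain ⟨J, hJ, ⟨k, hk⟩, f, hf, hN⟩ := borel_tits_twist T hD p hUG hU hne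
  have hU1 : IsPGroup p ↥T.U1 := (isPGroup_posUnipotent T.hF p).to_le inf_le_left
  refine ⟨(D.unipotentRadical F J ⊓ T.fx).map (MulAut.conj f).toMonoidHom, ?_, ?_, fun x hx => ?_,
    T.U1.map (MulAut.conj f).toMonoidHom, hU1.map _, fun x hx hcen => ?_⟩
  · rintro _ ⟨y, hy, rfl⟩
    exact mul_mem (mul_mem hf (T.U1_le_G1 ⟨radical_le_posUnipotent J hy.1, hy.2⟩)) (inv_mem hf)
  · exact (((isPGroup_posUnipotent T.hF p).to_le (radical_le_posUnipotent J)).to_le inf_le_left).map _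
  · have hm := parabolic_le_normalizer T.hF J (hN x hx.2 hx.1)
    have hmfx : f⁻¹ * x * f ∈ T.fx :=
      T.G1_le_fx (mul_mem (mul_mem (inv_mem hf) hx.2) hf)
    refine mem_normalizer_conj_map (mem_normalizer_iff.2 fun y => ?_)
    refine and_congr (mem_normalizer_iff.1 hm y) ?_
    exact mem_normalizer_iff.1 (le_normalizer hmfx) y
  · rw [mem_map_equiv, MulAut.conj_symm_apply]
    refine twist_centralizer T hC hc hg R hJ hk (mul_mem (mul_mem (inv_mem hf) hx) hf)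
      fun y hy hyf => ?_
    have h := hcen _ ⟨y, ⟨hy, hyf⟩, rfl⟩
    simp only [MulEquiv.coe_toMonoidHom, MulAut.conj_apply] at h
    calc f⁻¹ * x * f * y * (f⁻¹ * x * f)⁻¹ = f⁻¹ * (x * (f * y * f⁻¹) * x⁻¹) * f := by group
      _ = y := by rw [h]; group

theorem rad_twistedE6D4 {G : Type*} [Group G] {p : ℕ} [Fact p.Prime]
    (h : Cfsg.IsTwistedE6D4Char p G) : Rad p G := by
  obtain ⟨K, _, _, _, q, hq, ⟨hK, ⟨e⟩⟩ | ⟨hK, ⟨e⟩⟩⟩ := h
  · obtain ⟨φ, hφ, -, -, hG⟩ := exists_twistE6 hq hK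
    exact rad_of_mulEquiv (e.trans (MulEquiv.subgroupCongr hG.symm)).symm
      (rad_twist (twistE6 K φ hφ) (by simp) e6_gradeFacts e6_rootFacts)
  · obtain ⟨φ, hφ, -, -, hG⟩ := exists_twistD4 hq hK
    exact rad_of_mulEquiv (e.trans (MulEquiv.subgroupCongr hG.symm)).symm
      (rad_twist (twistD4 K φ hφ) (by simp) d4_gradeFacts d4_rootFacts)

end Cfsg.Agent.RadProp
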